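import Groth.Agent.Lib.Helper73.Sk.ProperSk

/-!
# Openness on the base of a "for all points of the fibre" locus, closed map case, dependent
predicate version (helper73)
-/

set_option autoImplicit false
universe u
open CategoryTheory AlgebraicGeometry TopologicalSpace Topology Limits TensorProduct LocCoh

namespace Groth.Agent.Lib.Helper73

variable {X Y : Scheme.{u}}

theorem fiber_pred_iff (f : X ⟶ Y) (Q : ∀ (s : Y), ↥(f.fiber s) → Prop) (s : Y) (z : f.fiber s) :
    Q s z ↔ Q (f.base (f.fiberι s z)) (f.asFiber (f.fiberι s z)) := by
  have hs := map_fiberι_eq f s z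
  generalize hx : f.fiberι s z = x at hs
  subst hs
  have : z = f.asFiber x := by
    apply (f.fiberι (f x)).isEmbedding.injective
    rw [hx, f.fiberι_asFiber x]
  rw [this]

/-- If `f` is a closed map and the locus of points `x` of `X` such that `Q` holds at `x` seen as a
point of its fibre is open in the source, then the set of `y` such that `Q` holds at all the points
of the fibre at `y` is open. -/
theorem isOpen_forall_fiber_of_isClosedMap' (f : X ⟶ Y) (hcl : IsClosedMap f)
    (Q : ∀ (s : Y), ↥(f.fiber s) → Prop)
    (hopen : IsOpen {x : X | Q (f.base x) (f.asFiber x)}) :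
    IsOpen {y : Y | ∀ x : ↥(f.fiber y), Q y x} := by
  have hZ := hcl _ hopen.isClosed_compl
  convert hZ.isOpen_compl using 1
  ext y
  simp only [Set.mem_setOf_eq, Set.mem_compl_iff, Set.mem_image, not_exists, not_and]
  constructor
  · intro h x hx hxy
    subst hxy
    exact hx (h (f.asFiber x))
  · intro h z
    rw [fiber_pred_iff f Q y z]
    by_contra hcon
    exact h (f.fiberι y z) hcon (map_fiberι_eq f y z)

end Groth.Agent.Lib.Helper73
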