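import Groth.Agent.Lib.Helper73.SkMod.AssChart
import Groth.Agent.Lib.Helper73.SkMod.ProperMod

/-!
# Openness of loci defined through associated points of the fibre modules (helper73)
-/

set_option autoImplicit false
set_option linter.style.haveILetI false
universe u
open CategoryTheory AlgebraicGeometry TopologicalSpace Topology Limits TensorProduct LocCoh

namespace Groth.Agent.Lib.Helper73

variable {X Y : Scheme.{u}}

/-- Quantifying over the points of the fibre through `x` which generize `x` is the same as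
quantifying over the points of `X` which generize `x` and lie in the same fibre. -/
theorem forall_fiber_generization_iff (f : X ⟶ Y) (Q : ∀ s : Y, ↥(f.fiber s) → Prop) (x : X) :
    (∀ z : ↥(f.fiber (f.base x)), f.asFiber x ∈ closure {z} → Q (f.base x) z) ↔
      ∀ x' : X, x' ⤳ x → f x' = f x → Q (f.base x') (f.asFiber x') := by
  constructor
  · intro h x' hx'x hfx'
    let z : f.fiber (f x) := (f.fiberHomeo (f x)).symm ⟨x', hfx'⟩
    have hz : f.fiberι (f x) z = x' := f.fiberι_fiberHomeo_symm (f x) ⟨x', hfx'⟩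
    have hsp : z ⤳ f.asFiber x := by
      rw [← (f.fiberι (f x)).isEmbedding.isInducing.specializes_iff, hz, f.fiberι_asFiber x]
      exact hx'x
    have h1 := h z (specializes_iff_mem_closure.mp hsp)
    rw [fiber_pred_iff f Q (f x) z] at h1
    rwa [hz] at h1
  · intro h z hz
    have hsp : f.fiberι (f x) z ⤳ x := by
      have := (specializes_iff_mem_closure.mpr hz).map (f.fiberι (f x)).continuous
      rwa [f.fiberι_asFiber x] at this
    rw [fiber_pred_iff f Q (f x) z]
    exact h _ hsp (map_fiberι_eq f (f x) z)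

theorem isOpen_goodDims_X (f : X ⟶ Y) [LocallyOfFinitePresentation f] (F : X.Modules)
    (hF : CohB1.IsFP F) (hflat : FlatMod.IsFlatOver f F) (Φ : Finset ℕ) :
    IsOpen {x : X | ∀ x' : X, x' ⤳ x → f x' = f x → AssAt f F x' → resTrdegNat f x' ∈ Φ} := by
  haveI : SheafOfModules.IsFinitePresentation (R := X.ringCatSheaf) F := hF
  haveI hq : F.IsQuasicoherent :=
    SheafOfModules.QuasicoherentData.isQuasicoherent (R := X.ringCatSheaf) (M := F)
      (SheafOfModules.IsFinitePresentation.exists_quasicoherentData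
        (R := X.ringCatSheaf) F).choose
  rw [isOpen_iff_mem_nhds]
  intro x₀ hx₀
  obtain ⟨U, hU, V, hV, hUV, m, hm, ρ, hx₀U, hρ, hρA, hfin, hfp, hfl⟩ :=
    exists_chart_data f F hF hflat x₀
  letI : Module (MvPolynomial m Γ(Y, V)) Γ(F, U) := Module.compHom Γ(F, U) ρ
  letI : Module Γ(Y, V) Γ(F, U) := Module.compHom Γ(F, U) (f.appLE V U hUV).hom
  haveI := chart_isScalarTower f F hUV m ρ hρA
  haveI : Module.Finite (MvPolynomial m Γ(Y, V)) Γ(F, U) := chart_finite F m ρ hρ
  have hopen := isOpen_goodDims Γ(Y, V) m Γ(F, U) Φ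
  have hW := U.isOpen.isOpenMap_subtype_val _ (hopen.preimage (chartMap_continuous hU m ρ))
  refine Filter.mem_of_superset (hW.mem_nhds ⟨⟨x₀, hx₀U⟩, ?_, rfl⟩) ?_
  · exact (goodDims_iff_chart f F hU hV hUV m ρ hρ hρA x₀ hx₀U Φ).1 hx₀
  · rintro _ ⟨⟨y, hy⟩, hmem, rfl⟩
    exact (goodDims_iff_chart f F hU hV hUV m ρ hρ hρA y hy Φ).2 hmem

theorem isOpen_noEmb_X (f : X ⟶ Y) [LocallyOfFinitePresentation f] (F : X.Modules)
    (hF : CohB1.IsFP F) (hflat : FlatMod.IsFlatOver f F) :
    IsOpen {x : X | ∀ x' : X, x' ⤳ x → f x' = f x → AssAt f F x' →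
      ∀ x'' : X, x'' ⤳ x' → f x'' = f x' → AssAt f F x'' → x'' = x'} := by
  haveI : SheafOfModules.IsFinitePresentation (R := X.ringCatSheaf) F := hF
  haveI hq : F.IsQuasicoherent :=
    SheafOfModules.QuasicoherentData.isQuasicoherent (R := X.ringCatSheaf) (M := F)
      (SheafOfModules.IsFinitePresentation.exists_quasicoherentData
        (R := X.ringCatSheaf) F).choose
  rw [isOpen_iff_mem_nhds]
  intro x₀ hx₀
  obtain ⟨U, hU, V, hV, hUV, m, hm, ρ, hx₀U, hρ, hρA, hfin, hfp, hfl⟩ :=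
    exists_chart_data f F hF hflat x₀
  letI : Module (MvPolynomial m Γ(Y, V)) Γ(F, U) := Module.compHom Γ(F, U) ρ
  letI : Module Γ(Y, V) Γ(F, U) := Module.compHom Γ(F, U) (f.appLE V U hUV).hom
  haveI := chart_isScalarTower f F hUV m ρ hρA
  haveI : Module.Finite (MvPolynomial m Γ(Y, V)) Γ(F, U) := chart_finite F m ρ hρ
  have hopen := isOpen_noEmb Γ(Y, V) m Γ(F, U)
  have hW := U.isOpen.isOpenMap_subtype_val _ (hopen.preimage (chartMap_continuous hU m ρ))
  refine Filter.mem_of_superset (hW.mem_nhds ⟨⟨x₀, hx₀U⟩, ?_, rfl⟩) ?_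
  · exact (noEmb_iff_chart f F hU hV hUV m ρ hρ hρA x₀ hx₀U).1 hx₀
  · rintro _ ⟨⟨y, hy⟩, hmem, rfl⟩
    exact (noEmb_iff_chart f F hU hV hUV m ρ hρ hρA y hy).2 hmem

end Groth.Agent.Lib.Helper73
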