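import Groth.Agent.Lib.Helper73.DimFormula.PairLe
import Groth.Agent.Lib.Helper73.DimFormula.Chevalley
import Groth.Agent.Lib.Helper73.DimFormula.Hypersurface
import Groth.Agent.Lib.Helper73.Sk.FibLocBridge

/-!
# Residual transcendence degrees on affine charts (helper73)
-/

set_option autoImplicit false
universe u
open CategoryTheory AlgebraicGeometry TopologicalSpace Topology Limits

namespace Groth.Agent.Lib.Helper73

variable {X Y : Scheme.{u}}

/-- The dimension of the closure of a point in its fibre is the residual transcendence degree. -/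
theorem topologicalKrullDim_closure_asFiber (f : X ⟶ Y) [LocallyOfFiniteType f] (x : X) :
    topologicalKrullDim ↥(closure ({f.asFiber x} : Set ↥(f.fiber (f.base x)))) =
      ((resTrdegNat f x : ℕ) : WithBot ℕ∞) := by
  have hdim := (isDimFun_trdegNat (k := Y.residueField (f x))
    (f.fiberToSpecResidueField (f x))).topologicalKrullDim_closure_singleton (f.asFiber x)
  rw [trdegNat_fiber_eq_resTrdegNat, f.fiberι_asFiber x] at hdim
  exact hdim

/-- Residual transcendence degrees are local on source and target. -/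
theorem resTrdegNat_eq_of_square {U V X S : Scheme.{u}} (j : U ⟶ X) (i : V ⟶ S)
    [IsPreimmersion j] [IsPreimmersion i] (f' : U ⟶ V) (f : X ⟶ S) (hsq : f' ≫ i = j ≫ f)
    (u : U) : resTrdegNat f' u = resTrdegNat f (j u) := by
  have h1 : resTrdeg f' u = resTrdeg f (j u) := by
    rw [← resTrdeg_comp_of_bijective_right f' i u
      (residueFieldMap_bijective_of_isPreimmersion i _), resTrdeg_congr hsq u,
      resTrdeg_comp_of_bijective_left j f u (residueFieldMap_bijective_of_isPreimmersion j _)]
  unfold resTrdegNat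
  rw [h1]

/-- The residual transcendence degree at a point of an affine open, computed on a presentation. -/
theorem resTrdegNat_eq_specAlg (f : X ⟶ Y) {U : X.Opens} (hU : IsAffineOpen U) {V : Y.Opens}
    (hV : IsAffineOpen V) (hUV : U ≤ f ⁻¹ᵁ V)
    (Pl : Type u) [CommRing Pl] [Algebra Γ(Y, V) Pl] (ρ : Pl →+* Γ(X, U))
    (hρ : Function.Surjective ρ)
    (hρA : ∀ a, ρ (algebraMap Γ(Y, V) Pl a) = (f.appLE V U hUV).hom a)
    (x : X) (hx : x ∈ U) :
    resTrdegNat f x = resTrdegNat (specAlg Γ(Y, V) Pl)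
      (PrimeSpectrum.comap ρ (hU.primeIdealOf ⟨x, hx⟩)) := by
  have hsq : Spec.map (f.appLE V U hUV) ≫ hV.fromSpec = hU.fromSpec ≫ f :=
    IsAffineOpen.SpecMap_appLE_fromSpec f hV hU hUV
  haveI : IsOpenImmersion hU.fromSpec := hU.isOpenImmersion_fromSpec
  haveI : IsOpenImmersion hV.fromSpec := hV.isOpenImmersion_fromSpec
  have h1 := resTrdegNat_eq_of_square hU.fromSpec hV.fromSpec (Spec.map (f.appLE V U hUV)) f hsq
    (hU.primeIdealOf ⟨x, hx⟩)
  rw [hU.fromSpec_primeIdealOf ⟨x, hx⟩] at h1
  rw [← h1]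
  have h2 : Spec.map (f.appLE V U hUV) =
      Spec.map (CommRingCat.ofHom ρ) ≫ specAlg Γ(Y, V) Pl := by
    unfold specAlg
    rw [← Spec.map_comp]
    congr 1
    ext a
    exact (hρA a).symm
  rw [h2]
  haveI : IsClosedImmersion (Spec.map (CommRingCat.ofHom ρ)) :=
    IsClosedImmersion.spec_of_surjective _ hρ
  exact resTrdegNat_comp_of_isPreimmersion (Spec.map (CommRingCat.ofHom ρ))
    (specAlg Γ(Y, V) Pl) (hU.primeIdealOf ⟨x, hx⟩)

end Groth.Agent.Lib.Helper73
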