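import Groth.Agent.Lib.Helper67.DepthAlg
import Groth.Agent.Lib.Helper56.DepthLoc

/-!
# Transfer of depth and support dimension along a surjective ring map and a semilinear
isomorphism (helper73)
-/

set_option autoImplicit false
universe u
open LocCoh

namespace Groth.Agent.Lib.Helper73

section
variable {Λ Ω L N : Type u} [CommRing Λ] [CommRing Ω] [AddCommGroup L] [Module Λ L]
  [AddCommGroup N] [Module Ω N]

/-- Annihilators correspond under a semilinear isomorphism over a ring map. -/
theorem annihilator_eq_comap_of_semilinear (ψ : Λ →+* Ω) (τ : L ≃+ N)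
    (hτ : ∀ (r : Λ) (l : L), τ (r • l) = ψ r • τ l) :
    Module.annihilator Λ L = (Module.annihilator Ω N).comap ψ := by
  ext r
  rw [Ideal.mem_comap, Module.mem_annihilator, Module.mem_annihilator]
  constructor
  · intro h n
    obtain ⟨l, rfl⟩ := τ.surjective n
    rw [← hτ, h l, map_zero]
  · intro h l
    apply τ.injective
    rw [hτ, h (τ l), map_zero]

theorem supportDim_eq_of_semilinear [Module.Finite Λ L] [Module.Finite Ω N] (ψ : Λ →+* Ω)
    (hψ : Function.Surjective ψ) (τ : L ≃+ N)
    (hτ : ∀ (r : Λ) (l : L), τ (r • l) = ψ r • τ l) :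
    Module.supportDim Λ L = Module.supportDim Ω N := by
  rw [Module.supportDim_eq_ringKrullDim_quotient_annihilator,
    Module.supportDim_eq_ringKrullDim_quotient_annihilator,
    annihilator_eq_comap_of_semilinear ψ τ hτ]
  let g : Λ →+* Ω ⧸ Module.annihilator Ω N := (Ideal.Quotient.mk _).comp ψ
  have hg : Function.Surjective g := Ideal.Quotient.mk_surjective.comp hψ
  have hk : RingHom.ker g = (Module.annihilator Ω N).comap ψ := by
    ext r
    rw [RingHom.mem_ker, Ideal.mem_comap]
    exact Ideal.Quotient.eq_zero_iff_mem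
  exact ringKrullDim_eq_of_ringEquiv
    ((Ideal.quotEquivOfEq hk.symm).trans (RingHom.quotientKerEquivOfSurjective hg))

theorem finite_of_semilinear [Module.Finite Λ L] (ψ : Λ →+* Ω) (τ : L ≃+ N)
    (hτ : ∀ (r : Λ) (l : L), τ (r • l) = ψ r • τ l) : Module.Finite Ω N := by
  classical
  obtain ⟨S, hS⟩ := (Module.finite_def (R := Λ) (M := L)).mp inferInstance
  refine ⟨⟨S.image τ, ?_⟩⟩
  rw [eq_top_iff]
  rintro n -
  obtain ⟨l, rfl⟩ := τ.surjective n
  have hl : l ∈ Submodule.span Λ (S : Set L) := by rw [hS]; trivial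
  induction hl using Submodule.span_induction with
  | mem x hx =>
    refine Submodule.subset_span ?_
    rw [Finset.coe_image]
    exact ⟨x, hx, rfl⟩
  | zero => rw [map_zero]; exact Submodule.zero_mem _
  | add x y _ _ hx hy => rw [map_add]; exact Submodule.add_mem _ hx hy
  | smul r x _ hx => rw [hτ]; exact Submodule.smul_mem _ _ hx

theorem depth_eq_of_semilinear [IsLocalRing Λ] [IsLocalRing Ω] [IsNoetherianRing Λ]
    [IsNoetherianRing Ω] [Module.Finite Λ L] (ψ : Λ →+* Ω)
    (hψ : Function.Surjective ψ) (τ : L ≃+ N)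
    (hτ : ∀ (r : Λ) (l : L), τ (r • l) = ψ r • τ l) :
    depth Λ L = depth Ω N := by
  letI : Algebra Λ Ω := ψ.toAlgebra
  letI : Module Λ N := Module.compHom N ψ
  haveI : IsScalarTower Λ Ω N := IsScalarTower.of_algebraMap_smul (fun _ _ => rfl)
  haveI : IsLocalHom (algebraMap Λ Ω) := IsLocalHom.of_surjective _ hψ
  let τ' : L ≃ₗ[Λ] N := { τ with map_smul' := fun r l => hτ r l }
  haveI : Module.Finite Λ N := Module.Finite.equiv τ'
  rw [Groth.Agent.Lib.Helper56.depth_congr τ']
  exact Groth.Agent.Lib.Helper67.depth_eq_depth_of_isLocalHom_of_finite (A := Λ) (B := Ω) N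

end

end Groth.Agent.Lib.Helper73
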