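import Mathlib.RingTheory.KrullDimension.Module
import Mathlib.RingTheory.LocalRing.Module
import Mathlib.RingTheory.Spectrum.Prime.Module
import Mathlib.RingTheory.KrullDimension.NonZeroDivisors
import Mathlib.RingTheory.LocalRing.ResidueField.Ideal
import Mathlib.RingTheory.Flat.FaithfullyFlat.Basic

/-!
# The support of a base change of a finite module (helper73)
-/

set_option autoImplicit false
universe u
open TensorProduct

namespace Groth.Agent.Lib.Helper73

theorem mem_support_baseChange_of_comap_mem {B B' M : Type u} [CommRing B] [CommRing B']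
    [Algebra B B'] [AddCommGroup M] [Module B M] [Module.Finite B M] (P' : PrimeSpectrum B')
    (h : PrimeSpectrum.comap (algebraMap B B') P' ∈ Module.support B M) :
    P' ∈ Module.support B' (B' ⊗[B] M) := by
  set P := PrimeSpectrum.comap (algebraMap B B') P' with hP
  rw [Module.mem_support_iff_nontrivial_residueField_tensorProduct] at h ⊢
  let K := P.asIdeal.ResidueField
  let K' := P'.asIdeal.ResidueField
  let φ : K →ₐ[B] K' := Ideal.ResidueField.mapₐ P.asIdeal P'.asIdeal (Algebra.ofId B B') rfl
  let _ : Algebra K K' := φ.toRingHom.toAlgebra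
  have : IsScalarTower B K K' := IsScalarTower.of_algebraMap_eq' φ.comp_algebraMap.symm
  have : Nontrivial (K ⊗[B] M) := h
  have h1 : Nontrivial (K' ⊗[K] (K ⊗[B] M)) := inferInstance
  have e1 : K' ⊗[K] (K ⊗[B] M) ≃ₗ[K'] K' ⊗[B] M :=
    AlgebraTensorModule.cancelBaseChange B K K' K' M
  have e2 : K' ⊗[B'] (B' ⊗[B] M) ≃ₗ[K'] K' ⊗[B] M :=
    AlgebraTensorModule.cancelBaseChange B B' K' K' M
  exact (e2.trans e1.symm).toEquiv.nontrivial

theorem notMem_support_baseChange {A B M : Type u} [CommRing A] [CommRing B] [Algebra A B]
    [AddCommGroup M] [Module A M] (P : PrimeSpectrum B)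
    (h : PrimeSpectrum.comap (algebraMap A B) P ∉ Module.support A M) :
    P ∉ Module.support B (B ⊗[A] M) := by
  rw [Module.notMem_support_iff'] at h ⊢
  intro z
  induction z using TensorProduct.induction_on with
  | zero => exact ⟨1, P.2.one_notMem, by simp⟩
  | tmul b m =>
    obtain ⟨r, hr, hrm⟩ := h m
    refine ⟨algebraMap A B r, hr, ?_⟩
    have : algebraMap A B r • (b ⊗ₜ[A] m) = r • (b ⊗ₜ[A] m) := by
      rw [algebraMap_smul]
    rw [this, TensorProduct.smul_tmul', TensorProduct.smul_tmul, hrm, TensorProduct.tmul_zero]
  | add x y hx hy =>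
    obtain ⟨r, hr, hrx⟩ := hx
    obtain ⟨s, hs, hsy⟩ := hy
    refine ⟨r * s, fun hrs => (P.2.mem_or_mem hrs).elim hr hs, ?_⟩
    rw [smul_add, mul_smul r s y, hsy, smul_zero, mul_comm, mul_smul, hrx, smul_zero, add_zero]

/-- The support of the base change of a finite module is the preimage of the support. -/
theorem support_baseChange_eq {A B M : Type u} [CommRing A] [CommRing B] [Algebra A B]
    [AddCommGroup M] [Module A M] [Module.Finite A M] :
    Module.support B (B ⊗[A] M) = PrimeSpectrum.comap (algebraMap A B) ⁻¹' Module.support A M := by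
  ext P
  constructor
  · intro hP
    by_contra hcon
    exact notMem_support_baseChange P hcon hP
  · intro hP
    exact mem_support_baseChange_of_comap_mem P hP

/-- The dimension of the support of the base change `Λ ⊗ M` of a finite module is the dimension
of `Λ / Ann(M) Λ`. -/
theorem supportDim_baseChange_eq_quotient {A B M : Type u} [CommRing A] [CommRing B] [Algebra A B]
    [AddCommGroup M] [Module A M] [Module.Finite A M] :
    Module.supportDim B (B ⊗[A] M) =
      ringKrullDim (B ⧸ (Module.annihilator A M).map (algebraMap A B)) := by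
  unfold Module.supportDim
  rw [support_baseChange_eq, Module.support_eq_zeroLocus, ringKrullDim_quotient,
    PrimeSpectrum.preimage_comap_zeroLocus, Ideal.map, PrimeSpectrum.zeroLocus_span]

/-- `Λ ⊗ M` is trivial when the image of the closed point is outside the support. -/
theorem subsingleton_baseChange_of_notMem_support {A B M : Type u} [CommRing A] [CommRing B]
    [Algebra A B] [IsLocalRing B] [AddCommGroup M] [Module A M]
    (h : PrimeSpectrum.comap (algebraMap A B) (IsLocalRing.closedPoint B) ∉ Module.support A M) :
    Subsingleton (B ⊗[A] M) := by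
  rw [← Module.support_eq_empty_iff (R := B)]
  by_contra hne
  obtain ⟨P, hP⟩ := Set.nonempty_iff_ne_empty.mpr hne
  have h1 : IsLocalRing.closedPoint B ∈ Module.support B (B ⊗[A] M) :=
    Module.mem_support_mono (IsLocalRing.le_maximalIdeal P.2.ne_top) hP
  exact notMem_support_baseChange _ h h1

theorem nontrivial_baseChange_of_mem_support {A B M : Type u} [CommRing A] [CommRing B]
    [Algebra A B] [AddCommGroup M] [Module A M] [Module.Finite A M] (P : PrimeSpectrum B)
    (h : PrimeSpectrum.comap (algebraMap A B) P ∈ Module.support A M) :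
    Nontrivial (B ⊗[A] M) := by
  have h1 := mem_support_baseChange_of_comap_mem P h
  rw [← not_subsingleton_iff_nontrivial, ← Module.support_eq_empty_iff (R := B)]
  exact Set.nonempty_iff_ne_empty.mp ⟨P, h1⟩

end Groth.Agent.Lib.Helper73
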