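import Groth.Prelude.Def_EGA4b
import Mathlib

/-!
# Abstract bridge: a quotient of a localization as a quotient of the fibre local ring of a
presentation (helper73)
-/

set_option autoImplicit false
universe u
open TensorProduct

namespace Groth.Agent.Lib.Helper73

section Ring

variable (A Pl B R₁ Ω : Type u) [CommRing A] [CommRing Pl] [CommRing B] [CommRing R₁] [CommRing Ω]
  [Algebra A Pl] [Algebra A B] [Algebra Pl B] [IsScalarTower A Pl B]
  (P : Ideal B) [P.IsPrime] [Algebra B R₁] [IsLocalization.AtPrime R₁ P]
  [Algebra A R₁] [IsScalarTower A B R₁]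

theorem map_primeCompl_comap_of_surjective (hρ : Function.Surjective (algebraMap Pl B)) :
    Submonoid.map (algebraMap Pl B) (P.comap (algebraMap Pl B)).primeCompl = P.primeCompl := by
  ext b
  constructor
  · rintro ⟨c, hc, rfl⟩
    exact hc
  · intro hb
    obtain ⟨c, rfl⟩ := hρ b
    exact ⟨c, hb, rfl⟩

/-- The bridge on the level of rings. -/
theorem exists_fibLocRing_surjection (hρ : Function.Surjective (algebraMap Pl B))
    (s : R₁ →+* Ω) (hs : Function.Surjective s)
    (hker : RingHom.ker s = (P.comap (algebraMap A B)).map (algebraMap A R₁)) :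
    ∃ ψ : EGA4.FibLocRing A Pl (P.comap (algebraMap Pl B)) →+* Ω, Function.Surjective ψ ∧
      (∀ c : Pl, ψ (algebraMap Pl (EGA4.FibLocRing A Pl (P.comap (algebraMap Pl B))) c) =
        s (algebraMap B R₁ (algebraMap Pl B c))) ∧
      RingHom.ker ψ = (RingHom.ker (algebraMap Pl B)).map
        (algebraMap Pl (EGA4.FibLocRing A Pl (P.comap (algebraMap Pl B)))) := by
  set P' := P.comap (algebraMap Pl B) with hP'
  have hT := map_primeCompl_comap_of_surjective Pl B P hρ
  let g₁ : Localization.AtPrime P' →+* R₁ :=
    IsLocalization.map R₁ (algebraMap Pl B) (hT.symm ▸ Submonoid.le_comap_map P'.primeCompl)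
  have hg₁s : Function.Surjective g₁ := by
    haveI : IsLocalization (Submonoid.map (algebraMap Pl B) P'.primeCompl) R₁ := by
      rw [hT]; infer_instance
    exact IsLocalization.map_surjective_of_surjective P'.primeCompl (Localization.AtPrime P') R₁ hρ
  have hg₁k : RingHom.ker g₁ = (RingHom.ker (algebraMap Pl B)).map
      (algebraMap Pl (Localization.AtPrime P')) :=
    IsLocalization.ker_map (S := Localization.AtPrime P') R₁ (algebraMap Pl B) hT
  have hg₁a : ∀ c : Pl, g₁ (algebraMap Pl (Localization.AtPrime P') c) =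
      algebraMap B R₁ (algebraMap Pl B c) := fun c => IsLocalization.map_eq _ c
  have hg₁A : g₁.comp (algebraMap A (Localization.AtPrime P')) = algebraMap A R₁ := by
    ext a
    show g₁ (algebraMap A (Localization.AtPrime P') a) = _
    rw [IsScalarTower.algebraMap_apply A Pl (Localization.AtPrime P'), hg₁a,
      ← IsScalarTower.algebraMap_apply A Pl B, ← IsScalarTower.algebraMap_apply A B R₁]
  -- the prime of `A`
  have hpA : P'.comap (algebraMap A Pl) = P.comap (algebraMap A B) := by
    rw [hP', Ideal.comap_comap, ← IsScalarTower.algebraMap_eq]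
  let ψ' : Localization.AtPrime P' →+* Ω := s.comp g₁
  have hψ's : Function.Surjective ψ' := hs.comp hg₁s
  have hψ'k : RingHom.ker ψ' =
      (P'.comap (algebraMap A Pl)).map (algebraMap A (Localization.AtPrime P')) ⊔
        (RingHom.ker (algebraMap Pl B)).map (algebraMap Pl (Localization.AtPrime P')) := by
    have h1 : RingHom.ker ψ' = (RingHom.ker s).comap g₁ := rfl
    rw [h1, hker, ← hg₁A, ← Ideal.map_map, Ideal.comap_map_of_surjective g₁ hg₁s, hpA]
    congr 1
  have hle : (P'.comap (algebraMap A Pl)).map (algebraMap A (Localization.AtPrime P')) ≤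
      RingHom.ker ψ' := by rw [hψ'k]; exact le_sup_left
  let ψ : EGA4.FibLocRing A Pl P' →+* Ω := Ideal.Quotient.lift _ ψ' (fun a ha => hle ha)
  refine ⟨ψ, ?_, ?_, ?_⟩
  · exact Ideal.Quotient.lift_surjective_of_surjective _ _ hψ's
  · intro c
    show ψ' (algebraMap Pl (Localization.AtPrime P') c) = _
    show s (g₁ (algebraMap Pl (Localization.AtPrime P') c)) = _
    rw [hg₁a]
  · have h2 : RingHom.ker ψ = (RingHom.ker ψ').map (Ideal.Quotient.mk _) := by
      ext y
      obtain ⟨y, rfl⟩ := Ideal.Quotient.mk_surjective y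
      rw [RingHom.mem_ker, Ideal.mem_map_iff_of_surjective _ Ideal.Quotient.mk_surjective]
      constructor
      · intro h
        exact ⟨y, h, rfl⟩
      · rintro ⟨y', hy', hyy'⟩
        have : ψ (Ideal.Quotient.mk _ y') = 0 := hy'
        rw [← hyy']
        exact this
    rw [h2, hψ'k, Ideal.map_sup, Ideal.map_quotient_self, bot_sup_eq, Ideal.map_map]
    rfl

end Ring

end Groth.Agent.Lib.Helper73
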