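import Mathlib

/-!
# Abstract bridge, module part (helper73)
-/

set_option autoImplicit false
universe u
open TensorProduct

namespace Groth.Agent.Lib.Helper73

section Tensor

variable {Pl B R₁ Ω Λ M F₁ N : Type u} [CommRing Pl] [CommRing B] [CommRing R₁] [CommRing Ω]
  [CommRing Λ] [Algebra Pl B] [Algebra B R₁] [Algebra R₁ Ω] [Algebra Pl Λ]
  [Algebra B Ω] [IsScalarTower B R₁ Ω] [Algebra Pl Ω] [IsScalarTower Pl B Ω]
  [AddCommGroup M] [Module B M] [Module Pl M] [IsScalarTower Pl B M]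
  [AddCommGroup F₁] [Module R₁ F₁] [Module B F₁] [IsScalarTower B R₁ F₁]
  [AddCommGroup N] [Module Ω N]

/-- Elements of the extension of an ideal killing `M` kill `Λ ⊗ M`. -/
theorem tmul_eq_zero_of_mem_map (J : Ideal Pl) (hJ : ∀ j ∈ J, ∀ m : M, j • m = 0)
    (k : Λ) (hk : k ∈ J.map (algebraMap Pl Λ)) (m : M) : k ⊗ₜ[Pl] m = 0 := by
  have key : ∀ k ∈ J.map (algebraMap Pl Λ), ∀ m : M, k ⊗ₜ[Pl] m = 0 := by
    intro k hk
    unfold Ideal.map at hk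
    induction hk using Submodule.span_induction with
    | mem x hx =>
      obtain ⟨j, hj, rfl⟩ := hx
      intro m
      rw [Algebra.algebraMap_eq_smul_one, TensorProduct.smul_tmul, hJ j hj m, tmul_zero]
    | zero => intro m; rw [zero_tmul]
    | add x y _ _ hx hy => intro m; rw [add_tmul, hx m, hy m, add_zero]
    | smul a x _ hx =>
      intro m
      have : (a • x) ⊗ₜ[Pl] m = a • (x ⊗ₜ[Pl] m) := (TensorProduct.smul_tmul' a x m).symm
      rw [this, hx m, smul_zero]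
  exact key k hk m

theorem exists_semilinear_tensor_equiv (hρ : Function.Surjective (algebraMap Pl B))
    (ψ : Λ →+* Ω) (hψs : Function.Surjective ψ)
    (hψa : ∀ c : Pl, ψ (algebraMap Pl Λ c) = algebraMap Pl Ω c)
    (hψk : RingHom.ker ψ = (RingHom.ker (algebraMap Pl B)).map (algebraMap Pl Λ))
    (g : M →ₗ[B] F₁) (hg : IsBaseChange R₁ g) (eN : N ≃ₗ[Ω] Ω ⊗[R₁] F₁) :
    ∃ τ : (Λ ⊗[Pl] M) ≃+ N, ∀ (r : Λ) (l : Λ ⊗[Pl] M), τ (r • l) = ψ r • τ l := by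
  -- `ψ` as a `Pl`-linear map
  let ψₗ : Λ →ₗ[Pl] Ω :=
    { toFun := ψ
      map_add' := map_add ψ
      map_smul' := fun c x => by
        show ψ (c • x) = c • ψ x
        rw [Algebra.smul_def, map_mul, hψa, ← Algebra.smul_def] }
  let T₁ : Λ ⊗[Pl] M →ₗ[Pl] Ω ⊗[Pl] M := LinearMap.rTensor M ψₗ
  have hJ : ∀ j ∈ RingHom.ker (algebraMap Pl B), ∀ m : M, j • m = 0 := by
    intro j hj m
    rw [← algebraMap_smul B j m, (RingHom.mem_ker).mp hj, zero_smul]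
  have hT₁s : Function.Surjective T₁ := LinearMap.rTensor_surjective M hψs
  have hT₁i : Function.Injective T₁ := by
    rw [← LinearMap.ker_eq_bot, eq_bot_iff]
    intro x hx
    have hex : Function.Exact (LinearMap.ker ψₗ).subtype ψₗ := LinearMap.exact_subtype_ker_map ψₗ
    have hex2 := rTensor_exact M hex hψs
    obtain ⟨y, rfl⟩ := (hex2 x).mp hx
    rw [Submodule.mem_bot]
    clear hx
    induction y using TensorProduct.induction_on with
    | zero => rw [map_zero]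
    | tmul k m =>
      rw [LinearMap.rTensor_tmul]
      refine tmul_eq_zero_of_mem_map (RingHom.ker (algebraMap Pl B)) hJ _ ?_ m
      rw [← hψk]
      exact k.2
    | add a b ha hb => rw [map_add, ha, hb, add_zero]
  let E₁ : Λ ⊗[Pl] M ≃ₗ[Pl] Ω ⊗[Pl] M := LinearEquiv.ofBijective T₁ ⟨hT₁i, hT₁s⟩
  have hE₁ : ∀ (r : Λ) (l : Λ ⊗[Pl] M), E₁ (r • l) = ψ r • E₁ l := by
    intro r l
    induction l using TensorProduct.induction_on with
    | zero => rw [smul_zero, map_zero, smul_zero]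
    | tmul k m =>
      show T₁ (r • (k ⊗ₜ[Pl] m)) = ψ r • T₁ (k ⊗ₜ[Pl] m)
      rw [TensorProduct.smul_tmul', LinearMap.rTensor_tmul, LinearMap.rTensor_tmul,
        TensorProduct.smul_tmul']
      show ψ (r • k) ⊗ₜ[Pl] m = (ψ r • ψ k) ⊗ₜ[Pl] m
      rw [smul_eq_mul, map_mul, smul_eq_mul]
    | add a b ha hb => rw [smul_add, map_add, ha, hb, map_add, smul_add]
  haveI : TensorProduct.CompatibleSMul Pl B Ω M :=
    TensorProduct.CompatibleSMul.of_algebraMap_surjective _ _ hρ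
  let E₂ : Ω ⊗[B] M ≃ₗ[Ω] Ω ⊗[Pl] M := TensorProduct.equivOfCompatibleSMul Pl B Ω Ω M
  let E₃ : Ω ⊗[R₁] (R₁ ⊗[B] M) ≃ₗ[Ω] Ω ⊗[B] M :=
    TensorProduct.AlgebraTensorModule.cancelBaseChange B R₁ Ω Ω M
  let E₄ : Ω ⊗[R₁] (R₁ ⊗[B] M) ≃ₗ[Ω] Ω ⊗[R₁] F₁ :=
    TensorProduct.AlgebraTensorModule.congr (LinearEquiv.refl Ω Ω) hg.equiv
  let E : Ω ⊗[Pl] M ≃ₗ[Ω] N := E₂.symm ≪≫ₗ E₃.symm ≪≫ₗ E₄ ≪≫ₗ eN.symm
  refine ⟨E₁.toAddEquiv.trans E.toAddEquiv, ?_⟩
  intro r l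
  show E (E₁ (r • l)) = ψ r • E (E₁ l)
  rw [hE₁, map_smul]

end Tensor

end Groth.Agent.Lib.Helper73
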