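import Groth.Prelude
import Mathlib

/-!
# Abstract identification of a quotient of a localization with `EGA4.FibLocRing` (helper73)
-/

set_option autoImplicit false
universe u
open TensorProduct

namespace Groth.Agent.Lib.Helper73

/-- If `R₁` is a localization of `B'` at the prime `q` and `s : R₁ → Ω` is surjective with kernel
generated by the image of `q ∩ A`, then `Ω` is the fibre local ring `B'_q / p B'_q`, compatibly
with the maps from `B'`. -/
theorem exists_fibLocRing_equiv (A B' R₁ Ω : Type u) [CommRing A] [CommRing B'] [CommRing R₁]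
    [CommRing Ω] [Algebra A B'] (q : Ideal B') [q.IsPrime] [Algebra B' R₁]
    [IsLocalization.AtPrime R₁ q] [Algebra A R₁] [IsScalarTower A B' R₁]
    (s : R₁ →+* Ω) (hs : Function.Surjective s)
    (hker : RingHom.ker s = (q.comap (algebraMap A B')).map (algebraMap A R₁)) :
    ∃ σ : EGA4.FibLocRing A B' q ≃+* Ω,
      ∀ b : B', σ (algebraMap B' (EGA4.FibLocRing A B' q) b) = s (algebraMap B' R₁ b) := by
  let e₀ : Localization.AtPrime q ≃ₐ[B'] R₁ :=
    IsLocalization.algEquiv q.primeCompl (Localization.AtPrime q) R₁
  let g : Localization.AtPrime q →+* Ω := s.comp e₀.toRingEquiv.toRingHom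
  have hg : Function.Surjective g := hs.comp e₀.surjective
  have hkg : (q.comap (algebraMap A B')).map (algebraMap A (Localization.AtPrime q)) =
      RingHom.ker g := by
    have h1 : RingHom.ker g = (RingHom.ker s).comap e₀.toRingEquiv.toRingHom := rfl
    rw [h1, hker]
    have h2 : ((q.comap (algebraMap A B')).map (algebraMap A R₁)).comap e₀.toRingEquiv.toRingHom =
        ((q.comap (algebraMap A B')).map (algebraMap A R₁)).map e₀.symm.toRingEquiv.toRingHom := by
      exact (Ideal.map_symm (I := (q.comap (algebraMap A B')).map (algebraMap A R₁))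
        (f := e₀.toRingEquiv)).symm
    rw [h2, Ideal.map_map]
    congr 1
    ext a
    show algebraMap A (Localization.AtPrime q) a = e₀.symm (algebraMap A R₁ a)
    rw [IsScalarTower.algebraMap_apply A B' R₁, AlgEquiv.commutes,
      ← IsScalarTower.algebraMap_apply]
  refine ⟨(Ideal.quotEquivOfEq hkg).trans (RingHom.quotientKerEquivOfSurjective hg), ?_⟩
  intro b
  show (RingHom.quotientKerEquivOfSurjective hg) ((Ideal.quotEquivOfEq hkg)
    (Ideal.Quotient.mk _ (algebraMap B' (Localization.AtPrime q) b))) = _
  rw [Ideal.quotEquivOfEq_mk]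
  show g (algebraMap B' (Localization.AtPrime q) b) = _
  show s (e₀ (algebraMap B' (Localization.AtPrime q) b)) = _
  rw [AlgEquiv.commutes]

end Groth.Agent.Lib.Helper73
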