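import Groth.Agent.Lib.Helper73.SkMod.KerStalkMap
import Groth.Agent.Lib.Helper73.SkMod.AbsBridge
import Groth.Agent.Lib.Helper73.SkMod.AbsTensor
import Groth.Agent.Lib.Lead.PullbackAff6

/-!
# The stalk of the restriction of a quasi-coherent module to a fibre, in terms of a presentation
(helper73)
-/

set_option autoImplicit false
universe u
open CategoryTheory AlgebraicGeometry TopologicalSpace Topology Limits TensorProduct

namespace Groth.Agent.Lib.Helper73

open Groth.Agent.Lib.Lead.QCohAff Groth.Agent.Lib.Lead.PullbackAff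

variable {X Y : Scheme.{u}} (f : X ⟶ Y) (F : X.Modules) [F.IsQuasicoherent]

set_option maxHeartbeats 800000 in
theorem exists_fibreModule_bridge {U : X.Opens} (hU : IsAffineOpen U) {V : Y.Opens}
    (hV : IsAffineOpen V) (hUV : U ≤ f ⁻¹ᵁ V)
    (Pl : Type u) [CommRing Pl] [Algebra Γ(Y, V) Pl] (ρ : Pl →+* Γ(X, U))
    (hρ : Function.Surjective ρ)
    (hρA : ∀ a, ρ (algebraMap Γ(Y, V) Pl a) = (f.appLE V U hUV).hom a)
    (x : X) (hx : x ∈ U) :
    letI : Module Pl Γ(F, U) := Module.compHom Γ(F, U) ρ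
    ∃ (ψ : EGA4.FibLocRing Γ(Y, V) Pl ((hU.primeIdealOf ⟨x, hx⟩).asIdeal.comap ρ) →+*
        (f.fiber (f.base x)).presheaf.stalk (f.asFiber x))
      (τ : (EGA4.FibLocRing Γ(Y, V) Pl ((hU.primeIdealOf ⟨x, hx⟩).asIdeal.comap ρ) ⊗[Pl] Γ(F, U)) ≃+
        ((Scheme.Modules.pullback (f.fiberι (f.base x))).obj F).presheaf.stalk (f.asFiber x)),
      Function.Surjective ψ ∧ ∀ r l, τ (r • l) = ψ r • τ l := by
  letI modPl : Module Pl Γ(F, U) := Module.compHom Γ(F, U) ρ
  have hz := f.fiberι_asFiber x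
  have hx₁ : f.fiberι (f x) (f.asFiber x) ∈ U := by rw [hz]; exact hx
  have hpt : hU.primeIdealOf ⟨f.fiberι (f x) (f.asFiber x), hx₁⟩ = hU.primeIdealOf ⟨x, hx⟩ :=
    congrArg hU.primeIdealOf (Subtype.ext hz)
  -- algebra structures
  letI algAB : Algebra Γ(Y, V) Γ(X, U) := (f.appLE V U hUV).hom.toAlgebra
  letI algPB : Algebra Pl Γ(X, U) := ρ.toAlgebra
  haveI towAPB : IsScalarTower Γ(Y, V) Pl Γ(X, U) :=
    IsScalarTower.of_algebraMap_eq (fun a => (hρA a).symm)
  letI algBR : Algebra Γ(X, U) (X.presheaf.stalk (f.fiberι (f x) (f.asFiber x))) :=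
    X.presheaf.algebra_section_stalk ⟨_, hx₁⟩
  haveI hloc : IsLocalization.AtPrime (X.presheaf.stalk (f.fiberι (f x) (f.asFiber x)))
      (hU.primeIdealOf ⟨x, hx⟩).asIdeal := by
    have := hU.isLocalization_stalk ⟨_, hx₁⟩
    rw [hpt] at this
    exact this
  letI algAR : Algebra Γ(Y, V) (X.presheaf.stalk (f.fiberι (f x) (f.asFiber x))) :=
    ((algebraMap Γ(X, U) (X.presheaf.stalk (f.fiberι (f x) (f.asFiber x)))).comp
      (algebraMap Γ(Y, V) Γ(X, U))).toAlgebra
  haveI towABR : IsScalarTower Γ(Y, V) Γ(X, U) (X.presheaf.stalk (f.fiberι (f x) (f.asFiber x))) :=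
    IsScalarTower.of_algebraMap_eq' rfl
  -- the surjection `s`
  let s := ((f.fiberι (f x)).stalkMap (f.asFiber x)).hom
  have hs : Function.Surjective s := (f.fiberι (f x)).stalkMap_surjective (f.asFiber x)
  have hker : RingHom.ker s =
      ((hU.primeIdealOf ⟨x, hx⟩).asIdeal.comap (algebraMap Γ(Y, V) Γ(X, U))).map
        (algebraMap Γ(Y, V) (X.presheaf.stalk (f.fiberι (f x) (f.asFiber x)))) := by
    have h1 := ker_stalkMap_fiberι f hV hUV x hx hx₁
    have h2 := congrArg PrimeSpectrum.asIdeal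
      (IsAffineOpen.comap_primeIdealOf_appLE (f := f) V hV U hU hUV hx)
    rw [h1, ← h2]
    rfl
  obtain ⟨ψ, hψs, hψa, hψk⟩ := exists_fibLocRing_surjection Γ(Y, V) Pl Γ(X, U)
    (X.presheaf.stalk (f.fiberι (f x) (f.asFiber x)))
    ((f.fiber (f.base x)).presheaf.stalk (f.asFiber x))
    (hU.primeIdealOf ⟨x, hx⟩).asIdeal hρ s hs hker
  -- module part
  letI algRΩ : Algebra (X.presheaf.stalk (f.fiberι (f x) (f.asFiber x)))
      ((f.fiber (f.base x)).presheaf.stalk (f.asFiber x)) := s.toAlgebra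
  letI algBΩ : Algebra Γ(X, U) ((f.fiber (f.base x)).presheaf.stalk (f.asFiber x)) :=
    ((algebraMap (X.presheaf.stalk (f.fiberι (f x) (f.asFiber x)))
      ((f.fiber (f.base x)).presheaf.stalk (f.asFiber x))).comp
      (algebraMap Γ(X, U) (X.presheaf.stalk (f.fiberι (f x) (f.asFiber x))))).toAlgebra
  haveI : IsScalarTower Γ(X, U) (X.presheaf.stalk (f.fiberι (f x) (f.asFiber x)))
      ((f.fiber (f.base x)).presheaf.stalk (f.asFiber x)) := IsScalarTower.of_algebraMap_eq' rfl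
  letI algPΩ : Algebra Pl ((f.fiber (f.base x)).presheaf.stalk (f.asFiber x)) :=
    ((algebraMap Γ(X, U) ((f.fiber (f.base x)).presheaf.stalk (f.asFiber x))).comp
      (algebraMap Pl Γ(X, U))).toAlgebra
  haveI : IsScalarTower Pl Γ(X, U) ((f.fiber (f.base x)).presheaf.stalk (f.asFiber x)) :=
    IsScalarTower.of_algebraMap_eq' rfl
  haveI : IsScalarTower Pl Γ(X, U) Γ(F, U) := IsScalarTower.of_algebraMap_smul fun _ _ => rfl
  haveI : IsScalarTower Γ(X, U) (X.presheaf.stalk (f.fiberι (f x) (f.asFiber x)))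
      (StalkOver F U _ hx₁) := IsScalarTower.of_algebraMap_smul fun r m => rfl
  haveI hlm : IsLocalizedModule (hU.primeIdealOf ⟨x, hx⟩).asIdeal.primeCompl
      (germL F U _ hx₁) := by
    have := isLocalizedModule_germL F hU _ hx₁
    rw [hpt] at this
    exact this
  have hg : IsBaseChange (X.presheaf.stalk (f.fiberι (f x) (f.asFiber x))) (germL F U _ hx₁) :=
    IsLocalizedModule.isBaseChange (hU.primeIdealOf ⟨x, hx⟩).asIdeal.primeCompl _ _
  obtain ⟨eN⟩ := nonempty_stalk_pullback_equiv (f.fiberι (f x)) F (f.asFiber x)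
  obtain ⟨τ, hτ⟩ := exists_semilinear_tensor_equiv (Pl := Pl) (B := Γ(X, U))
    (R₁ := X.presheaf.stalk (f.fiberι (f x) (f.asFiber x)))
    (Ω := (f.fiber (f.base x)).presheaf.stalk (f.asFiber x))
    (M := Γ(F, U)) (F₁ := StalkOver F U _ hx₁) hρ ψ hψs hψa hψk (germL F U _ hx₁) hg eN
  exact ⟨ψ, τ, hψs, hτ⟩

end Groth.Agent.Lib.Helper73
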