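import Groth.Agent.Lib.Helper73.SkMod.CodepthChart
import Groth.Agent.Lib.Helper67.Depth

/-!
# Cohen–Macaulay fibre modules: reduction to codepth `≤ 0` (helper73)
-/

set_option autoImplicit false
set_option linter.style.haveILetI false
universe u
open CategoryTheory AlgebraicGeometry TopologicalSpace Topology Limits TensorProduct LocCoh

namespace Groth.Agent.Lib.Helper73

/-- For a finite module over a Noetherian local ring: zero or Cohen–Macaulay iff the codepth is
`≤ 0`. -/
theorem subsingleton_or_isCM_iff (R : Type u) [CommRing R] [IsLocalRing R] [IsNoetherianRing R]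
    (M : Type u) [AddCommGroup M] [Module R M] [Module.Finite R M] :
    (Subsingleton M ∨ IsCohenMacaulayModule R M) ↔
      Module.supportDim R M ≤ ((depth R M : ℕ∞) : WithBot ℕ∞) + ((0 : ℕ) : WithBot ℕ∞) := by
  have h0 : ((depth R M : ℕ∞) : WithBot ℕ∞) + ((0 : ℕ) : WithBot ℕ∞) =
      ((depth R M : ℕ∞) : WithBot ℕ∞) := by
    rw [Nat.cast_zero, add_zero]
  rw [h0]
  constructor
  · rintro (h | h)
    · rw [Module.supportDim_eq_bot_of_subsingleton]
      exact bot_le
    · exact le_of_eq h
  · intro h
    rcases subsingleton_or_nontrivial M with hs | hn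
    · exact Or.inl hs
    · exact Or.inr (le_antisymm h (Groth.Agent.Lib.Helper67.depth_le_supportDim (R := R) M))

variable {X Y : Scheme.{u}}

section Chart

variable (f : X ⟶ Y) [LocallyOfFiniteType f] (F : X.Modules) [F.IsQuasicoherent]
  {U : X.Opens} (hU : IsAffineOpen U) {V : Y.Opens} (hV : IsAffineOpen V) (hUV : U ≤ f ⁻¹ᵁ V)
  (n : Type u) [Finite n] (ρ : MvPolynomial n Γ(Y, V) →+* Γ(X, U))
  (hρ : Function.Surjective ρ)
  (hρA : ∀ a, ρ (algebraMap Γ(Y, V) (MvPolynomial n Γ(Y, V)) a) = (f.appLE V U hUV).hom a)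

include hU hV hρ hρA in
/-- The fibre module stalk is finite over the fibre local ring (chart version). -/
theorem finite_fibreModule_chart [Module.Finite Γ(X, U) Γ(F, U)] (x : X) (hx : x ∈ U) :
    Module.Finite ((f.fiber (f.base x)).presheaf.stalk (f.asFiber x))
      (((Scheme.Modules.pullback (f.fiberι (f.base x))).obj F).presheaf.stalk (f.asFiber x)) := by
  letI modPl : Module (MvPolynomial n Γ(Y, V)) Γ(F, U) := Module.compHom Γ(F, U) ρ
  haveI hfin : Module.Finite (MvPolynomial n Γ(Y, V)) Γ(F, U) := chart_finite F n ρ hρ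
  obtain ⟨ψ, τ, hψ, hτ⟩ := exists_fibreModule_bridge f F hU hV hUV (MvPolynomial n Γ(Y, V)) ρ hρ
    hρA x hx
  exact finite_of_semilinear ψ τ hτ

end Chart

/-- The fibre module stalk of a finitely presented module is finite over the fibre local ring. -/
theorem finite_fibreModule (f : X ⟶ Y) [LocallyOfFinitePresentation f] (F : X.Modules)
    (hF : CohB1.IsFP F) (hflat : FlatMod.IsFlatOver f F) (x : X) :
    Module.Finite ((f.fiber (f.base x)).presheaf.stalk (f.asFiber x))
      (((Scheme.Modules.pullback (f.fiberι (f.base x))).obj F).presheaf.stalk (f.asFiber x)) := by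
  haveI : SheafOfModules.IsFinitePresentation (R := X.ringCatSheaf) F := hF
  haveI hq : F.IsQuasicoherent :=
    SheafOfModules.QuasicoherentData.isQuasicoherent (R := X.ringCatSheaf) (M := F)
      (SheafOfModules.IsFinitePresentation.exists_quasicoherentData
        (R := X.ringCatSheaf) F).choose
  obtain ⟨U, hU, V, hV, hUV, m, hm, ρ, hxU, hρ, hρA, hfin, hfp, hfl⟩ :=
    exists_chart_data f F hF hflat x
  exact finite_fibreModule_chart f F hU hV hUV m ρ hρ hρA x hxU

end Groth.Agent.Lib.Helper73
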