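import Groth.Agent.Lib.Helper73.SkMod.RectDepthChart
import Groth.Agent.Lib.Helper2.FinPresAff
import Groth.Agent.Lib.Lead.QCohAff5
import Groth.Agent.Lib.Lead.PullbackAff4

/-!
# Chart set-up for fibrewise statements about a finitely presented flat module (helper73)
-/

set_option autoImplicit false
set_option linter.style.haveILetI false
universe u
open CategoryTheory AlgebraicGeometry TopologicalSpace Topology Limits TensorProduct LocCoh

namespace Groth.Agent.Lib.Helper73

/-- A finitely presented algebra is a quotient of a polynomial ring (with variables indexed by a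
type in the same universe) by a finitely generated ideal: surjection form. -/
theorem exists_poly_surjection (A B : Type u) [CommRing A] [CommRing B] [Algebra A B]
    [Algebra.FinitePresentation A B] :
    ∃ (n : Type u) (_ : Finite n) (ρ : MvPolynomial n A →ₐ[A] B), Function.Surjective ρ ∧
      (RingHom.ker ρ.toRingHom).FG := by
  obtain ⟨N, ρ₀, hsurj, hfg⟩ := Algebra.FinitePresentation.out (R := A) (A := B)
  let ε : MvPolynomial (ULift.{u} (Fin N)) A ≃ₐ[A] MvPolynomial (Fin N) A :=
    MvPolynomial.renameEquiv A Equiv.ulift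
  let ρ : MvPolynomial (ULift.{u} (Fin N)) A →ₐ[A] B := ρ₀.comp ε.toAlgHom
  have hρ : Function.Surjective ρ := hsurj.comp ε.surjective
  refine ⟨ULift.{u} (Fin N), inferInstance, ρ, hρ, ?_⟩
  have hker : RingHom.ker ρ.toRingHom =
      (RingHom.ker ρ₀.toRingHom).map ε.symm.toRingEquiv.toRingHom := by
    ext p
    rw [RingHom.mem_ker]
    constructor
    · intro hp
      have : ε p ∈ RingHom.ker ρ₀.toRingHom := by
        rw [RingHom.mem_ker]; exact hp
      have h2 := Ideal.mem_map_of_mem ε.symm.toRingEquiv.toRingHom this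
      simpa using h2
    · intro hp
      have hle : (RingHom.ker ρ₀.toRingHom).map ε.symm.toRingEquiv.toRingHom ≤
          RingHom.ker ρ.toRingHom := by
        rw [Ideal.map_le_iff_le_comap]
        intro q hq
        rw [Ideal.mem_comap, RingHom.mem_ker]
        rw [RingHom.mem_ker] at hq
        show ρ₀ (ε (ε.symm q)) = 0
        rw [AlgEquiv.apply_symm_apply]
        exact hq
      exact (RingHom.mem_ker).mp (hle hp)
  rw [hker]
  exact hfg.map _

/-- A finitely presented module over a quotient `B = Pl / (f.g. ideal)` is finitely presented over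
`Pl`. -/
theorem finitePresentation_compHom_of_surjective {Pl B : Type u} [CommRing Pl] [CommRing B]
    (ρ : Pl →+* B) (hρ : Function.Surjective ρ) (hker : (RingHom.ker ρ).FG)
    (M : Type u) [AddCommGroup M] [Module B M] [Module.FinitePresentation B M] :
    letI : Module Pl M := Module.compHom M ρ
    Module.FinitePresentation Pl M := by
  letI : Algebra Pl B := ρ.toAlgebra
  letI : Module Pl M := Module.compHom M ρ
  haveI : IsScalarTower Pl B M := IsScalarTower.of_algebraMap_smul fun _ _ => rfl
  haveI : Module.FinitePresentation Pl B := by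
    refine Module.finitePresentation_of_surjective (Algebra.linearMap Pl B) hρ ?_
    have : LinearMap.ker (Algebra.linearMap Pl B) = (RingHom.ker ρ).restrictScalars Pl := by
      ext p
      simp only [LinearMap.mem_ker, Algebra.linearMap_apply, Submodule.restrictScalars_mem,
        RingHom.mem_ker]
      rfl
    rw [this]
    exact hker
  exact Module.FinitePresentation.trans (R := Pl) M B

variable {X Y : Scheme.{u}}

/-- Chart data around a point for a finitely presented `f`-flat module `F` on `X`, `f` locally of
finite presentation. -/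
theorem exists_chart_data (f : X ⟶ Y) [LocallyOfFinitePresentation f] (F : X.Modules)
    (hF : CohB1.IsFP F) (hflat : FlatMod.IsFlatOver f F) (x₀ : X) :
    ∃ (U : X.Opens) (_ : IsAffineOpen U) (V : Y.Opens) (_ : IsAffineOpen V) (hUV : U ≤ f ⁻¹ᵁ V)
      (n : Type u) (_ : Finite n) (ρ : MvPolynomial n Γ(Y, V) →+* Γ(X, U)),
      x₀ ∈ U ∧ Function.Surjective ρ ∧
      (∀ a, ρ (algebraMap Γ(Y, V) (MvPolynomial n Γ(Y, V)) a) = (f.appLE V U hUV).hom a) ∧
      Module.Finite Γ(X, U) Γ(F, U) ∧
      (letI : Module (MvPolynomial n Γ(Y, V)) Γ(F, U) := Module.compHom Γ(F, U) ρ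
       Module.FinitePresentation (MvPolynomial n Γ(Y, V)) Γ(F, U)) ∧
      (letI : Module Γ(Y, V) Γ(F, U) := Module.compHom Γ(F, U) (f.appLE V U hUV).hom
       Module.Flat Γ(Y, V) Γ(F, U)) := by
  haveI : SheafOfModules.IsFinitePresentation (R := X.ringCatSheaf) F := hF
  haveI hq : F.IsQuasicoherent :=
    SheafOfModules.QuasicoherentData.isQuasicoherent (R := X.ringCatSheaf) (M := F)
      (SheafOfModules.IsFinitePresentation.exists_quasicoherentData
        (R := X.ringCatSheaf) F).choose
  obtain ⟨V, U, hV, hU, hxU, hUV⟩ := Groth.Agent.Lib.Lead.PullbackAff.exists_affines f x₀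
  letI : Algebra Γ(Y, V) Γ(X, U) := (f.appLE V U hUV).hom.toAlgebra
  haveI : Algebra.FinitePresentation Γ(Y, V) Γ(X, U) := f.finitePresentation_appLE hV hU hUV
  obtain ⟨n, hn, ρ, hρ, hker⟩ := exists_poly_surjection Γ(Y, V) Γ(X, U)
  haveI hfp : Module.FinitePresentation Γ(X, U) Γ(F, U) :=
    Groth.Agent.Lib.Helper2.FinTypeAff.finitePresentation_sections F hU
  refine ⟨U, hU, V, hV, hUV, n, hn, ρ.toRingHom, hxU, hρ, fun a => ρ.commutes a, inferInstance,
    finitePresentation_compHom_of_surjective ρ.toRingHom hρ hker Γ(F, U),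
    (Groth.Agent.Lib.Lead.QCohAff.flat_sections_iff f F hU hV hUV).2 (fun y _ => hflat y)⟩

end Groth.Agent.Lib.Helper73
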