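import Groth.Agent.Lib.Helper73.Sk.FibreNumerics

/-!
# Numerics of fibre modules over a polynomial ring (helper73)
-/

set_option autoImplicit false
universe u
open CategoryTheory AlgebraicGeometry TopologicalSpace Topology Limits TensorProduct LocCoh

namespace Groth.Agent.Lib.Helper73

section
variable (A : Type u) [CommRing A] (n : Type u) [Finite n]
  (M : Type u) [AddCommGroup M] [Module (MvPolynomial n A) M] [Module A M]
  [IsScalarTower A (MvPolynomial n A) M]

/-- The fibrewise projective dimension of a module over `A[n]` at a prime of `A[n]`. -/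
noncomputable def fibPdM (P : PrimeSpectrum (MvPolynomial n A)) : WithBot ℕ∞ :=
  projectiveDimension (ModuleCat.of (EGA4.FibLocRing A (MvPolynomial n A) P.asIdeal)
    ((EGA4.FibLocRing A (MvPolynomial n A) P.asIdeal) ⊗[MvPolynomial n A] M))

theorem upperSemicontinuous_fibPdM [Module.FinitePresentation (MvPolynomial n A) M]
    [Module.Flat A M] : UpperSemicontinuous (fibPdM A n M) :=
  Groth.Agent.S19197.result A (MvPolynomial n A) M

theorem isOpen_fibPdM_lt [Module.FinitePresentation (MvPolynomial n A) M] [Module.Flat A M]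
    (b : ℕ) : IsOpen {P : PrimeSpectrum (MvPolynomial n A) |
      fibPdM A n M P < ((b : ℕ) : WithBot ℕ∞)} :=
  (upperSemicontinuous_iff_isOpen_preimage.mp (upperSemicontinuous_fibPdM A n M))
    ((b : ℕ) : WithBot ℕ∞)

/-- `dim Λ + t = N` for the fibre local ring `Λ` of `A[n]`. -/
theorem ringKrullDim_fibLocRing_mvPolynomial_add (P : PrimeSpectrum (MvPolynomial n A)) :
    ringKrullDim (EGA4.FibLocRing A (MvPolynomial n A) P.asIdeal) +
      ((resTrdegNat (specAlg A (MvPolynomial n A)) P : ℕ) : WithBot ℕ∞) =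
      ((Nat.card n : ℕ) : WithBot ℕ∞) := by
  have h2 := fibreDimAt_eq (specAlg A (MvPolynomial n A)) P
  have h2' := fibreDimAt_specAlg_mvPolynomial A n P
  have eΛ := fiberStalkSpecEquiv A P
  rw [ringKrullDim_eq_of_ringEquiv eΛ] at h2
  rw [← h2', h2]

theorem fibPdM_eq_bot_of_subsingleton (P : PrimeSpectrum (MvPolynomial n A))
    [Subsingleton ((EGA4.FibLocRing A (MvPolynomial n A) P.asIdeal) ⊗[MvPolynomial n A] M)] :
    fibPdM A n M P = ⊥ := by
  unfold fibPdM
  rw [projectiveDimension_eq_bot_iff]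
  exact ModuleCat.isZero_of_subsingleton _

theorem mod_numerics [Module.Finite (MvPolynomial n A) M] (P : PrimeSpectrum (MvPolynomial n A))
    [Nontrivial ((EGA4.FibLocRing A (MvPolynomial n A) P.asIdeal) ⊗[MvPolynomial n A] M)] :
    ∃ e d : ℕ, fibPdM A n M P = e ∧
      depth (EGA4.FibLocRing A (MvPolynomial n A) P.asIdeal)
        ((EGA4.FibLocRing A (MvPolynomial n A) P.asIdeal) ⊗[MvPolynomial n A] M) = d ∧
      e + d + resTrdegNat (specAlg A (MvPolynomial n A)) P = Nat.card n := by
  haveI hreg := isRegularLocalRing_fibLocRing_mvPolynomial A n P.asIdeal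
  obtain ⟨e, he, hdim⟩ := Groth.Agent.Lib.Helper77.RegularAB.exists_pd_add_depth_eq_dim
    (EGA4.FibLocRing A (MvPolynomial n A) P.asIdeal)
    ((EGA4.FibLocRing A (MvPolynomial n A) P.asIdeal) ⊗[MvPolynomial n A] M)
  have hN := ringKrullDim_fibLocRing_mvPolynomial_add A n P
  rw [hdim] at hN
  -- the depth is finite
  have hfin : depth (EGA4.FibLocRing A (MvPolynomial n A) P.asIdeal)
      ((EGA4.FibLocRing A (MvPolynomial n A) P.asIdeal) ⊗[MvPolynomial n A] M) ≠ ⊤ := by
    intro htop
    rw [htop] at hN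
    have : (((e : ℕ∞) + ⊤ : ℕ∞) : WithBot ℕ∞) + ((resTrdegNat (specAlg A (MvPolynomial n A)) P : ℕ) :
        WithBot ℕ∞) = ((⊤ : ℕ∞) : WithBot ℕ∞) := by
      rw [add_top]
      rfl
    rw [this] at hN
    exact absurd hN (by
      intro h
      have : ((⊤ : ℕ∞) : WithBot ℕ∞) ≠ ((Nat.card n : ℕ) : WithBot ℕ∞) := by
        intro h'
        have := WithBot.coe_injective h'
        exact ENat.top_ne_coe _ this
      exact this h)
  obtain ⟨d, hd⟩ := ENat.ne_top_iff_exists.mp hfin
  refine ⟨e, d, he, hd.symm, ?_⟩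
  rw [← hd] at hN
  have : ((e + d + resTrdegNat (specAlg A (MvPolynomial n A)) P : ℕ) : WithBot ℕ∞) =
      ((Nat.card n : ℕ) : WithBot ℕ∞) := by
    rw [← hN]
    push_cast
    rfl
  exact_mod_cast this

end

end Groth.Agent.Lib.Helper73
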