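import Groth.Agent.Lib.Helper73.SkMod.Bridge
import Groth.Agent.Lib.Helper73.SkMod.Transfer
import Groth.Agent.Lib.Helper73.SkMod.ModNumerics
import Groth.Agent.Lib.Helper73.SkMod.TrdegChart
import Groth.Agent.Lib.Helper73.Sk.SkCons

/-!
# The rectified depth of the fibre module on an affine chart (helper73)
-/

set_option autoImplicit false
universe u
open CategoryTheory AlgebraicGeometry TopologicalSpace Topology Limits TensorProduct LocCoh

namespace Groth.Agent.Lib.Helper73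

variable {X Y : Scheme.{u}}

theorem depth_eq_top_of_subsingleton (R : Type u) [CommRing R] [IsLocalRing R] (M : Type u)
    [AddCommGroup M] [Module R M] [Subsingleton M] : depth R M = ⊤ := by
  unfold depth idealDepth
  rw [if_pos (Subsingleton.elim _ _)]

section Chart

variable (f : X ⟶ Y) [LocallyOfFiniteType f] (F : X.Modules) [F.IsQuasicoherent]
  {U : X.Opens} (hU : IsAffineOpen U) {V : Y.Opens} (hV : IsAffineOpen V) (hUV : U ≤ f ⁻¹ᵁ V)
  (n : Type u) [Finite n] (ρ : MvPolynomial n Γ(Y, V) →+* Γ(X, U))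
  (hρ : Function.Surjective ρ)
  (hρA : ∀ a, ρ (algebraMap Γ(Y, V) (MvPolynomial n Γ(Y, V)) a) = (f.appLE V U hUV).hom a)

include hρA in
theorem chart_isScalarTower :
    letI : Module (MvPolynomial n Γ(Y, V)) Γ(F, U) := Module.compHom Γ(F, U) ρ
    letI : Module Γ(Y, V) Γ(F, U) := Module.compHom Γ(F, U) (f.appLE V U hUV).hom
    IsScalarTower Γ(Y, V) (MvPolynomial n Γ(Y, V)) Γ(F, U) := by
  letI : Module (MvPolynomial n Γ(Y, V)) Γ(F, U) := Module.compHom Γ(F, U) ρ
  letI : Module Γ(Y, V) Γ(F, U) := Module.compHom Γ(F, U) (f.appLE V U hUV).hom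
  refine IsScalarTower.of_algebraMap_smul fun a m => ?_
  show ρ (algebraMap Γ(Y, V) (MvPolynomial n Γ(Y, V)) a) • m = (f.appLE V U hUV).hom a • m
  rw [hρA]

include hρ in
theorem chart_finite [Module.Finite Γ(X, U) Γ(F, U)] :
    letI : Module (MvPolynomial n Γ(Y, V)) Γ(F, U) := Module.compHom Γ(F, U) ρ
    Module.Finite (MvPolynomial n Γ(Y, V)) Γ(F, U) := by
  letI : Module (MvPolynomial n Γ(Y, V)) Γ(F, U) := Module.compHom Γ(F, U) ρ
  letI : Algebra (MvPolynomial n Γ(Y, V)) Γ(X, U) := ρ.toAlgebra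
  haveI : IsScalarTower (MvPolynomial n Γ(Y, V)) Γ(X, U) Γ(F, U) :=
    IsScalarTower.of_algebraMap_smul fun _ _ => rfl
  haveI : Module.Finite (MvPolynomial n Γ(Y, V)) Γ(X, U) :=
    Module.Finite.of_surjective (Algebra.linearMap (MvPolynomial n Γ(Y, V)) Γ(X, U)) hρ
  exact Module.Finite.trans Γ(X, U) Γ(F, U)

/-- Abstract form of the chart computation. -/
theorem rectifiedDepth_ge_iff_abstract (A : Type u) [CommRing A] (M : Type u) [AddCommGroup M]
    [Module (MvPolynomial n A) M] [Module A M] [IsScalarTower A (MvPolynomial n A) M]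
    [Module.Finite (MvPolynomial n A) M] (P : PrimeSpectrum (MvPolynomial n A))
    (Ω N : Type u) [CommRing Ω] [IsLocalRing Ω] [IsNoetherianRing Ω] [AddCommGroup N] [Module Ω N]
    (ψ : EGA4.FibLocRing A (MvPolynomial n A) P.asIdeal →+* Ω) (hψ : Function.Surjective ψ)
    (τ : (EGA4.FibLocRing A (MvPolynomial n A) P.asIdeal ⊗[MvPolynomial n A] M) ≃+ N)
    (hτ : ∀ r l, τ (r • l) = ψ r • τ l) (t : ℕ)
    (ht : t = resTrdegNat (specAlg A (MvPolynomial n A)) P) (k : ℕ) :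
    ((k : WithBot ℕ∞) ≤ ((depth Ω N : ℕ∞) : WithBot ℕ∞) + ((t : ℕ) : WithBot ℕ∞)) ↔
      fibPdM A n M P < ((Nat.card n + 1 - k : ℕ) : WithBot ℕ∞) := by
  haveI hreg := isRegularLocalRing_fibLocRing_mvPolynomial A n P.asIdeal
  have hdepth := depth_eq_of_semilinear ψ hψ τ hτ
  rw [← hdepth]
  rcases subsingleton_or_nontrivial
    ((EGA4.FibLocRing A (MvPolynomial n A) P.asIdeal) ⊗[MvPolynomial n A] M) with hsub | hnt
  · rw [fibPdM_eq_bot_of_subsingleton, depth_eq_top_of_subsingleton]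
    constructor
    · intro _
      exact WithBot.bot_lt_coe _
    · intro _
      have : ((⊤ : ℕ∞) : WithBot ℕ∞) + ((t : ℕ) : WithBot ℕ∞) = ((⊤ : ℕ∞) : WithBot ℕ∞) := rfl
      rw [this]
      exact_mod_cast le_top
  · obtain ⟨e, d, he, hd, hN⟩ := mod_numerics A n M P
    rw [he, hd]
    have e1 : (((k : ℕ) : WithBot ℕ∞) ≤ (((d : ℕ) : ℕ∞) : WithBot ℕ∞) +
        ((t : ℕ) : WithBot ℕ∞)) ↔ k ≤ d + t := by
      constructor
      · intro h; exact_mod_cast h
      · intro h; exact_mod_cast h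
    have e2 : (((e : ℕ) : WithBot ℕ∞) < ((Nat.card n + 1 - k : ℕ) : WithBot ℕ∞)) ↔
        e < Nat.card n + 1 - k := by
      constructor
      · intro h; exact_mod_cast h
      · intro h; exact_mod_cast h
    rw [e1, e2, ht]
    omega

include hV hρ hρA in
/-- On a chart, the rectified depth of the fibre module is `≥ k` iff the fibrewise projective
dimension over the polynomial ring is `< N + 1 - k`. -/
theorem rectifiedDepth_ge_iff_chart [Module.Finite Γ(X, U) Γ(F, U)] (x : X) (hx : x ∈ U) (k : ℕ) :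
    letI : Module (MvPolynomial n Γ(Y, V)) Γ(F, U) := Module.compHom Γ(F, U) ρ
    letI : Module Γ(Y, V) Γ(F, U) := Module.compHom Γ(F, U) (f.appLE V U hUV).hom
    haveI : IsScalarTower Γ(Y, V) (MvPolynomial n Γ(Y, V)) Γ(F, U) :=
      chart_isScalarTower f F hUV n ρ hρA
    ((k : WithBot ℕ∞) ≤
      ((depth ((f.fiber (f.base x)).presheaf.stalk (f.asFiber x))
        (((Scheme.Modules.pullback (f.fiberι (f.base x))).obj F).presheaf.stalk (f.asFiber x)) :
          ℕ∞) : WithBot ℕ∞) +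
        topologicalKrullDim ↥(closure ({f.asFiber x} : Set ↥(f.fiber (f.base x))))) ↔
      fibPdM Γ(Y, V) n Γ(F, U) (PrimeSpectrum.comap ρ (hU.primeIdealOf ⟨x, hx⟩)) <
        ((Nat.card n + 1 - k : ℕ) : WithBot ℕ∞) := by
  letI modPl : Module (MvPolynomial n Γ(Y, V)) Γ(F, U) := Module.compHom Γ(F, U) ρ
  letI modA : Module Γ(Y, V) Γ(F, U) := Module.compHom Γ(F, U) (f.appLE V U hUV).hom
  haveI tow : IsScalarTower Γ(Y, V) (MvPolynomial n Γ(Y, V)) Γ(F, U) :=
    chart_isScalarTower f F hUV n ρ hρA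
  haveI hfin : Module.Finite (MvPolynomial n Γ(Y, V)) Γ(F, U) := chart_finite F n ρ hρ
  obtain ⟨ψ, τ, hψ, hτ⟩ := exists_fibreModule_bridge f F hU hV hUV (MvPolynomial n Γ(Y, V)) ρ hρ
    hρA x hx
  have ht : resTrdegNat f x = resTrdegNat (specAlg Γ(Y, V) (MvPolynomial n Γ(Y, V)))
      (PrimeSpectrum.comap ρ (hU.primeIdealOf ⟨x, hx⟩)) :=
    resTrdegNat_eq_specAlg f hU hV hUV (MvPolynomial n Γ(Y, V)) ρ hρ hρA x hx
  rw [topologicalKrullDim_closure_asFiber f x]
  haveI hNΩ := isNoetherianRing_fiber_stalk f (f.base x) (f.asFiber x)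
  exact rectifiedDepth_ge_iff_abstract n Γ(Y, V) Γ(F, U)
    (PrimeSpectrum.comap ρ (hU.primeIdealOf ⟨x, hx⟩)) _ _ ψ hψ τ hτ (resTrdegNat f x) ht k

end Chart

end Groth.Agent.Lib.Helper73
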