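import Groth.Agent.Lib.Helper73.SkMod.SuppBC
import Groth.Agent.Lib.Helper73.SkMod.RectDepthChart
import Groth.Agent.Lib.Helper73.DimFormula.Chevalley

/-!
# The codepth of the fibre module on a chart, abstract form (helper73)
-/

set_option autoImplicit false
set_option linter.style.haveILetI false
universe u
open CategoryTheory AlgebraicGeometry TopologicalSpace Topology Limits TensorProduct LocCoh

namespace Groth.Agent.Lib.Helper73

section FibLoc

variable (A : Type u) [CommRing A] {R : Type u} [CommRing R] [Algebra A R]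

/-- The closed point of the fibre local ring lies over the prime. -/
theorem comap_closedPoint_fibLocRing (P : PrimeSpectrum R) :
    haveI : IsLocalRing (EGA4.FibLocRing A R P.asIdeal) :=
      Groth.Agent.Lib.Helper77.FlatDepth.fibLoc_isLocalRing A _ P.asIdeal
    PrimeSpectrum.comap (algebraMap R (EGA4.FibLocRing A R P.asIdeal))
      (IsLocalRing.closedPoint (EGA4.FibLocRing A R P.asIdeal)) = P := by
  haveI : IsLocalRing (EGA4.FibLocRing A R P.asIdeal) :=
    Groth.Agent.Lib.Helper77.FlatDepth.fibLoc_isLocalRing A _ P.asIdeal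
  have h3 : (algebraMap R (EGA4.FibLocRing A R P.asIdeal)) =
      (Ideal.Quotient.mk _).comp (algebraMap R (Localization.AtPrime P.asIdeal)) := rfl
  haveI : IsLocalHom (Ideal.Quotient.mk ((P.asIdeal.comap (algebraMap A R)).map
      (algebraMap A (Localization.AtPrime P.asIdeal)))) :=
    IsLocalHom.of_surjective _ Ideal.Quotient.mk_surjective
  rw [h3, PrimeSpectrum.comap_comp_apply, IsLocalRing.comap_closedPoint]
  ext1
  exact Localization.AtPrime.under_maximalIdeal

variable (M : Type u) [AddCommGroup M] [Module R M] [Module.Finite R M]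

theorem supportDim_fibLoc_tensor (q' : Ideal (R ⧸ Module.annihilator R M)) [q'.IsPrime] :
    Module.supportDim (EGA4.FibLocRing A R (q'.comap (Ideal.Quotient.mk _)))
      (EGA4.FibLocRing A R (q'.comap (Ideal.Quotient.mk _)) ⊗[R] M) =
      ringKrullDim (EGA4.FibLocRing A (R ⧸ Module.annihilator R M) q') := by
  rw [supportDim_baseChange_eq_quotient, ← ker_fibLocQuotMap A (Module.annihilator R M) q']
  exact ringKrullDim_eq_of_ringEquiv
    (RingHom.quotientKerEquivOfSurjective (fibLocQuotMap_surjective A _ q'))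

theorem nontrivial_fibLoc_tensor (P : PrimeSpectrum R) (hP : P ∈ Module.support R M) :
    Nontrivial (EGA4.FibLocRing A R P.asIdeal ⊗[R] M) := by
  haveI : IsLocalRing (EGA4.FibLocRing A R P.asIdeal) :=
    Groth.Agent.Lib.Helper77.FlatDepth.fibLoc_isLocalRing A _ P.asIdeal
  refine nontrivial_baseChange_of_mem_support
    (IsLocalRing.closedPoint (EGA4.FibLocRing A R P.asIdeal)) ?_
  rw [comap_closedPoint_fibLocRing]
  exact hP

omit [Module.Finite R M] in
theorem subsingleton_fibLoc_tensor (P : PrimeSpectrum R) (hP : P ∉ Module.support R M) :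
    Subsingleton (EGA4.FibLocRing A R P.asIdeal ⊗[R] M) := by
  haveI : IsLocalRing (EGA4.FibLocRing A R P.asIdeal) :=
    Groth.Agent.Lib.Helper77.FlatDepth.fibLoc_isLocalRing A _ P.asIdeal
  refine subsingleton_baseChange_of_notMem_support ?_
  rw [comap_closedPoint_fibLocRing]
  exact hP

end FibLoc

section Poly

variable (A : Type u) [CommRing A] (n : Type u) [Finite n]

theorem fibreDimAt_specAlg_quot (I : Ideal (MvPolynomial n A))
    (x : PrimeSpectrum (MvPolynomial n A ⧸ I)) :
    FlatMor.fibreDimAt (specAlg A (MvPolynomial n A ⧸ I)) x =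
      ringKrullDim (EGA4.FibLocRing A (MvPolynomial n A ⧸ I) x.asIdeal) +
        ((resTrdegNat (specAlg A (MvPolynomial n A))
          (PrimeSpectrum.comap (Ideal.Quotient.mk I) x) : ℕ) : WithBot ℕ∞) := by
  have h1 := fibreDimAt_eq (specAlg A (MvPolynomial n A ⧸ I)) x
  have eΩ := fiberStalkSpecEquiv A x
  have h3 : resTrdegNat (specAlg A (MvPolynomial n A ⧸ I)) x =
      resTrdegNat (specAlg A (MvPolynomial n A)) (PrimeSpectrum.comap (Ideal.Quotient.mk I) x) := by
    rw [← specQuot_comp]
    haveI : IsClosedImmersion (specQuot A n I) :=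
      IsClosedImmersion.spec_of_surjective _ Ideal.Quotient.mk_surjective
    exact resTrdegNat_comp_of_isPreimmersion (specQuot A n I) (specAlg A (MvPolynomial n A)) x
  rw [h1, ringKrullDim_eq_of_ringEquiv eΩ, h3]

variable (M : Type u) [AddCommGroup M] [Module (MvPolynomial n A) M] [Module A M]
  [IsScalarTower A (MvPolynomial n A) M] [Module.Finite (MvPolynomial n A) M]

/-- The chart-side condition equivalent to "codepth `≤ k`". -/
def CodepthCond (k : ℕ) (P : PrimeSpectrum (MvPolynomial n A)) : Prop :=
  ∃ a b : ℕ, a + b = Nat.card n + k ∧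
    (∀ q' : PrimeSpectrum (MvPolynomial n A ⧸ Module.annihilator (MvPolynomial n A) M),
      PrimeSpectrum.comap (Ideal.Quotient.mk _) q' = P →
      FlatMor.fibreDimAt (specAlg A (MvPolynomial n A ⧸ Module.annihilator (MvPolynomial n A) M)) q'
        ≤ ((a : ℕ) : WithBot ℕ∞)) ∧
    fibPdM A n M P < ((b + 1 : ℕ) : WithBot ℕ∞)

/-- Numerics at a point of the support. -/
theorem codepth_numerics
    (q' : PrimeSpectrum (MvPolynomial n A ⧸ Module.annihilator (MvPolynomial n A) M)) :
    ∃ e d m : ℕ,
      fibPdM A n M (PrimeSpectrum.comap (Ideal.Quotient.mk _) q') = e ∧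
      depth (EGA4.FibLocRing A (MvPolynomial n A) (q'.asIdeal.comap (Ideal.Quotient.mk _)))
        (EGA4.FibLocRing A (MvPolynomial n A) (q'.asIdeal.comap (Ideal.Quotient.mk _))
          ⊗[MvPolynomial n A] M) = d ∧
      Module.supportDim
        (EGA4.FibLocRing A (MvPolynomial n A) (q'.asIdeal.comap (Ideal.Quotient.mk _)))
        (EGA4.FibLocRing A (MvPolynomial n A) (q'.asIdeal.comap (Ideal.Quotient.mk _))
          ⊗[MvPolynomial n A] M) = m ∧
      FlatMor.fibreDimAt
        (specAlg A (MvPolynomial n A ⧸ Module.annihilator (MvPolynomial n A) M)) q' =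
        ((m + resTrdegNat (specAlg A (MvPolynomial n A))
          (PrimeSpectrum.comap (Ideal.Quotient.mk _) q') : ℕ) : WithBot ℕ∞) ∧
      e + d + resTrdegNat (specAlg A (MvPolynomial n A))
          (PrimeSpectrum.comap (Ideal.Quotient.mk _) q') = Nat.card n := by
  set P : PrimeSpectrum (MvPolynomial n A) := PrimeSpectrum.comap (Ideal.Quotient.mk _) q' with hP
  have hsupp : P ∈ Module.support (MvPolynomial n A) M := by
    rw [Module.mem_support_iff_of_finite]
    intro a ha
    show Ideal.Quotient.mk _ a ∈ q'.asIdeal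
    rw [Ideal.Quotient.eq_zero_iff_mem.mpr ha]
    exact zero_mem _
  haveI hnt : Nontrivial (EGA4.FibLocRing A (MvPolynomial n A) P.asIdeal ⊗[MvPolynomial n A] M) :=
    nontrivial_fibLoc_tensor A M P hsupp
  obtain ⟨e, d, he, hd, hN⟩ := mod_numerics A n M P
  have hδ := supportDim_fibLoc_tensor A M q'.asIdeal
  haveI hreg := isRegularLocalRing_fibLocRing_mvPolynomial A n
    (q'.asIdeal.comap (Ideal.Quotient.mk (Module.annihilator (MvPolynomial n A) M)))
  haveI : IsLocalRing (EGA4.FibLocRing A
      (MvPolynomial n A ⧸ Module.annihilator (MvPolynomial n A) M) q'.asIdeal) :=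
    Groth.Agent.Lib.Helper77.FlatDepth.fibLoc_isLocalRing A _ q'.asIdeal
  haveI : IsNoetherianRing (EGA4.FibLocRing A
      (MvPolynomial n A ⧸ Module.annihilator (MvPolynomial n A) M) q'.asIdeal) :=
    isNoetherianRing_of_surjective _ _ (fibLocQuotMap A _ q'.asIdeal)
      (fibLocQuotMap_surjective A _ q'.asIdeal)
  obtain ⟨m, hm⟩ := Groth.Agent.Lib.Helper77.FlatDepth.exists_nat_dim (EGA4.FibLocRing A
      (MvPolynomial n A ⧸ Module.annihilator (MvPolynomial n A) M) q'.asIdeal)
  refine ⟨e, d, m, he, hd, hδ.trans hm, ?_, hN⟩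
  rw [fibreDimAt_specAlg_quot, hm]
  push_cast
  rfl

omit [Finite n] [Module A M] [IsScalarTower A (MvPolynomial n A) M] in
theorem exists_comap_mk_eq_of_mem_support (P : PrimeSpectrum (MvPolynomial n A))
    (hP : P ∈ Module.support (MvPolynomial n A) M) :
    ∃ q' : PrimeSpectrum (MvPolynomial n A ⧸ Module.annihilator (MvPolynomial n A) M),
      PrimeSpectrum.comap (Ideal.Quotient.mk _) q' = P := by
  rw [Module.support_eq_zeroLocus] at hP
  have h := range_comap_of_surjective _
    (Ideal.Quotient.mk (Module.annihilator (MvPolynomial n A) M)) Ideal.Quotient.mk_surjective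
  rw [Ideal.mk_ker] at h
  rw [← h] at hP
  exact hP

omit [Finite n] [Module A M] [IsScalarTower A (MvPolynomial n A) M] in
theorem comap_mk_mem_support
    (q' : PrimeSpectrum (MvPolynomial n A ⧸ Module.annihilator (MvPolynomial n A) M)) :
    PrimeSpectrum.comap (Ideal.Quotient.mk _) q' ∈ Module.support (MvPolynomial n A) M := by
  rw [Module.mem_support_iff_of_finite]
  intro a ha
  show Ideal.Quotient.mk _ a ∈ q'.asIdeal
  rw [Ideal.Quotient.eq_zero_iff_mem.mpr ha]
  exact zero_mem _

theorem codepth_le_iff_abstract (P : PrimeSpectrum (MvPolynomial n A))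
    (Ω N : Type u) [CommRing Ω] [IsLocalRing Ω] [IsNoetherianRing Ω] [AddCommGroup N] [Module Ω N]
    (ψ : EGA4.FibLocRing A (MvPolynomial n A) P.asIdeal →+* Ω) (hψ : Function.Surjective ψ)
    (τ : (EGA4.FibLocRing A (MvPolynomial n A) P.asIdeal ⊗[MvPolynomial n A] M) ≃+ N)
    (hτ : ∀ r l, τ (r • l) = ψ r • τ l) (k : ℕ) :
    (Module.supportDim Ω N ≤ ((depth Ω N : ℕ∞) : WithBot ℕ∞) + k) ↔ CodepthCond A n M k P := by
  haveI hreg := isRegularLocalRing_fibLocRing_mvPolynomial A n P.asIdeal
  haveI : Module.Finite Ω N := finite_of_semilinear ψ τ hτ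
  have hdepth := depth_eq_of_semilinear ψ hψ τ hτ
  have hsd := supportDim_eq_of_semilinear ψ hψ τ hτ
  rw [← hdepth, ← hsd]
  clear hdepth hsd
  by_cases hsupp : P ∈ Module.support (MvPolynomial n A) M
  · obtain ⟨q', hq'⟩ := exists_comap_mk_eq_of_mem_support A n M P hsupp
    subst hq'
    obtain ⟨e, d, m, he, hd, hm, hD, hN⟩ := codepth_numerics A n M q'
    have hd' : depth (EGA4.FibLocRing A (MvPolynomial n A)
        (PrimeSpectrum.comap (Ideal.Quotient.mk _) q').asIdeal)
        (EGA4.FibLocRing A (MvPolynomial n A)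
          (PrimeSpectrum.comap (Ideal.Quotient.mk _) q').asIdeal ⊗[MvPolynomial n A] M) = d := hd
    have hm' : Module.supportDim (EGA4.FibLocRing A (MvPolynomial n A)
        (PrimeSpectrum.comap (Ideal.Quotient.mk _) q').asIdeal)
        (EGA4.FibLocRing A (MvPolynomial n A)
          (PrimeSpectrum.comap (Ideal.Quotient.mk _) q').asIdeal ⊗[MvPolynomial n A] M) = m := hm
    rw [hd', hm']
    unfold CodepthCond
    constructor
    · intro h
      have h' : m ≤ d + k := by exact_mod_cast h
      refine ⟨Nat.card n + k - e, e, by omega, ?_, ?_⟩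
      · intro q'' hq''
        have := PrimeSpectrum.comap_injective_of_surjective _ Ideal.Quotient.mk_surjective hq''
        subst this
        rw [hD]
        exact_mod_cast (by omega : m + resTrdegNat (specAlg A (MvPolynomial n A))
          (PrimeSpectrum.comap (Ideal.Quotient.mk _) q'') ≤ Nat.card n + k - e)
      · rw [he]
        exact_mod_cast Nat.lt_succ_self e
    · rintro ⟨a, b, hab, h1, h2⟩
      have h1' := h1 q' rfl
      rw [hD] at h1'
      rw [he] at h2
      have h1'' : m + resTrdegNat (specAlg A (MvPolynomial n A))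
          (PrimeSpectrum.comap (Ideal.Quotient.mk _) q') ≤ a := by exact_mod_cast h1'
      have h2'' : e < b + 1 := by exact_mod_cast h2
      exact_mod_cast (by omega : m ≤ d + k)
  · haveI := subsingleton_fibLoc_tensor A M P hsupp
    rw [Module.supportDim_eq_bot_of_subsingleton]
    refine iff_of_true bot_le ⟨Nat.card n + k, 0, rfl, ?_, ?_⟩
    · intro q' hq'
      exfalso
      apply hsupp
      rw [← hq']
      exact comap_mk_mem_support A n M q'
    · rw [fibPdM_eq_bot_of_subsingleton]
      exact WithBot.bot_lt_coe _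

theorem isOpen_codepthCond [Module.FinitePresentation (MvPolynomial n A) M] [Module.Flat A M]
    (k : ℕ) : IsOpen {P : PrimeSpectrum (MvPolynomial n A) | CodepthCond A n M k P} := by
  have hset : {P : PrimeSpectrum (MvPolynomial n A) | CodepthCond A n M k P} =
      ⋃ a : ℕ, ⋃ b : ℕ, {P : PrimeSpectrum (MvPolynomial n A) | a + b = Nat.card n + k ∧
        (∀ q' : PrimeSpectrum (MvPolynomial n A ⧸ Module.annihilator (MvPolynomial n A) M),
          PrimeSpectrum.comap (Ideal.Quotient.mk _) q' = P →
          FlatMor.fibreDimAt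
            (specAlg A (MvPolynomial n A ⧸ Module.annihilator (MvPolynomial n A) M)) q'
            ≤ ((a : ℕ) : WithBot ℕ∞)) ∧
        fibPdM A n M P < ((b + 1 : ℕ) : WithBot ℕ∞)} := by
    ext P
    simp only [Set.mem_setOf_eq, Set.mem_iUnion]
    rfl
  rw [hset]
  refine isOpen_iUnion fun a => isOpen_iUnion fun b => ?_
  by_cases hab : a + b = Nat.card n + k
  · simp only [hab, true_and]
    rw [Set.setOf_and]
    refine IsOpen.inter ?_ (isOpen_fibPdM_lt A n M (b + 1))
    have hop := isOpen_fibreDimAt_le a _ _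
      (specAlg A (MvPolynomial n A ⧸ Module.annihilator (MvPolynomial n A) M))
    have hcl : IsClosed (PrimeSpectrum.comap
        (Ideal.Quotient.mk (Module.annihilator (MvPolynomial n A) M)) ''
        {q' | ¬ FlatMor.fibreDimAt
          (specAlg A (MvPolynomial n A ⧸ Module.annihilator (MvPolynomial n A) M)) q' ≤
            ((a : ℕ) : WithBot ℕ∞)}) :=
      (PrimeSpectrum.isClosedEmbedding_comap_of_surjective _ _
        Ideal.Quotient.mk_surjective).isClosedMap _ hop.isClosed_compl
    have hT : {P : PrimeSpectrum (MvPolynomial n A) |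
        ∀ q' : PrimeSpectrum (MvPolynomial n A ⧸ Module.annihilator (MvPolynomial n A) M),
          PrimeSpectrum.comap (Ideal.Quotient.mk _) q' = P →
          FlatMor.fibreDimAt
            (specAlg A (MvPolynomial n A ⧸ Module.annihilator (MvPolynomial n A) M)) q'
            ≤ ((a : ℕ) : WithBot ℕ∞)} = (PrimeSpectrum.comap
        (Ideal.Quotient.mk (Module.annihilator (MvPolynomial n A) M)) ''
        {q' | ¬ FlatMor.fibreDimAt
          (specAlg A (MvPolynomial n A ⧸ Module.annihilator (MvPolynomial n A) M)) q' ≤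
            ((a : ℕ) : WithBot ℕ∞)})ᶜ := ?_
    · rw [hT]
      exact hcl.isOpen_compl
    ext P
    simp only [Set.mem_setOf_eq, Set.mem_compl_iff, Set.mem_image, not_exists, not_and]
    constructor
    · intro h q' hq' hP
      exact hq' (h q' hP)
    · intro h q' hP
      by_contra hcon
      exact h q' hcon hP
  · simp only [hab, false_and, Set.setOf_false, isOpen_empty]

end Poly

end Groth.Agent.Lib.Helper73
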