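import Groth.Agent.Lib.Helper73.SkMod.ChartSetup
import Groth.Agent.Lib.Helper73.SkMod.CodepthAbstract

/-!
# The codepth of the fibre module on an affine chart (helper73)
-/

set_option autoImplicit false
set_option linter.style.haveILetI false
universe u
open CategoryTheory AlgebraicGeometry TopologicalSpace Topology Limits TensorProduct LocCoh

namespace Groth.Agent.Lib.Helper73

variable {X Y : Scheme.{u}}

section Chart

variable (f : X ⟶ Y) [LocallyOfFiniteType f] (F : X.Modules) [F.IsQuasicoherent]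
  {U : X.Opens} (hU : IsAffineOpen U) {V : Y.Opens} (hV : IsAffineOpen V) (hUV : U ≤ f ⁻¹ᵁ V)
  (n : Type u) [Finite n] (ρ : MvPolynomial n Γ(Y, V) →+* Γ(X, U))
  (hρ : Function.Surjective ρ)
  (hρA : ∀ a, ρ (algebraMap Γ(Y, V) (MvPolynomial n Γ(Y, V)) a) = (f.appLE V U hUV).hom a)

include hV hρ hρA in
/-- On a chart, the codepth of the fibre module is `≤ k` iff the chart-side condition holds. -/
theorem codepth_le_iff_chart [Module.Finite Γ(X, U) Γ(F, U)] (x : X) (hx : x ∈ U) (k : ℕ) :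
    letI : Module (MvPolynomial n Γ(Y, V)) Γ(F, U) := Module.compHom Γ(F, U) ρ
    letI : Module Γ(Y, V) Γ(F, U) := Module.compHom Γ(F, U) (f.appLE V U hUV).hom
    haveI : IsScalarTower Γ(Y, V) (MvPolynomial n Γ(Y, V)) Γ(F, U) :=
      chart_isScalarTower f F hUV n ρ hρA
    (Module.supportDim ((f.fiber (f.base x)).presheaf.stalk (f.asFiber x))
        (((Scheme.Modules.pullback (f.fiberι (f.base x))).obj F).presheaf.stalk (f.asFiber x)) ≤
      ((depth ((f.fiber (f.base x)).presheaf.stalk (f.asFiber x))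
        (((Scheme.Modules.pullback (f.fiberι (f.base x))).obj F).presheaf.stalk (f.asFiber x)) :
          ℕ∞) : WithBot ℕ∞) + k) ↔
      CodepthCond Γ(Y, V) n Γ(F, U) k (PrimeSpectrum.comap ρ (hU.primeIdealOf ⟨x, hx⟩)) := by
  letI modPl : Module (MvPolynomial n Γ(Y, V)) Γ(F, U) := Module.compHom Γ(F, U) ρ
  letI modA : Module Γ(Y, V) Γ(F, U) := Module.compHom Γ(F, U) (f.appLE V U hUV).hom
  haveI tow : IsScalarTower Γ(Y, V) (MvPolynomial n Γ(Y, V)) Γ(F, U) :=
    chart_isScalarTower f F hUV n ρ hρA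
  haveI hfin : Module.Finite (MvPolynomial n Γ(Y, V)) Γ(F, U) := chart_finite F n ρ hρ
  obtain ⟨ψ, τ, hψ, hτ⟩ := exists_fibreModule_bridge f F hU hV hUV (MvPolynomial n Γ(Y, V)) ρ hρ
    hρA x hx
  haveI hNΩ := isNoetherianRing_fiber_stalk f (f.base x) (f.asFiber x)
  exact codepth_le_iff_abstract Γ(Y, V) n Γ(F, U)
    (PrimeSpectrum.comap ρ (hU.primeIdealOf ⟨x, hx⟩)) _ _ ψ hψ τ hτ k

end Chart

end Groth.Agent.Lib.Helper73
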