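import Groth.Agent.Lib.Helper67.FiberStalk
import Groth.Agent.Lib.Lead.QCohAff5

/-!
# The kernel of the stalk map of the inclusion of a fibre, on affine charts (helper73)
-/

set_option autoImplicit false
universe u
open CategoryTheory AlgebraicGeometry TopologicalSpace Topology Limits

namespace Groth.Agent.Lib.Helper73

open Groth.Agent.Lib.Helper67.FiberStalk Groth.Agent.Lib.Lead.QCohAff

variable {X Y : Scheme.{u}} (f : X ⟶ Y)

theorem ker_comp_iso {R R' T : Type u} [CommRing R] [CommRing R'] [CommRing T] (c : R ≃+* R')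
    (s : R' →+* T) : RingHom.ker s = (RingHom.ker (s.comp c.toRingHom)).map c.toRingHom := by
  ext r
  constructor
  · intro hr
    have : c.symm r ∈ RingHom.ker (s.comp c.toRingHom) := by
      rw [RingHom.mem_ker] at hr ⊢
      simpa using hr
    have h2 := Ideal.mem_map_of_mem c.toRingHom this
    simpa using h2
  · intro hr
    have hle : (RingHom.ker (s.comp c.toRingHom)).map c.toRingHom ≤ RingHom.ker s := by
      rw [Ideal.map_le_iff_le_comap]
      intro a ha
      rw [Ideal.mem_comap, RingHom.mem_ker]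
      rw [RingHom.mem_ker] at ha
      exact ha
    exact hle hr

/-- The kernel of `O_{X,x₁} → O_{X_y,z}` (where `x₁` is the image of `z = asFiber x`) is generated
by the image of the prime of `Γ(Y,V)` corresponding to `f x`. -/
theorem ker_stalkMap_fiberι {U : X.Opens} {V : Y.Opens} (hV : IsAffineOpen V)
    (hUV : U ≤ f ⁻¹ᵁ V) (x : X) (hx : x ∈ U)
    (hx₁ : f.fiberι (f x) (f.asFiber x) ∈ U) :
    RingHom.ker ((f.fiberι (f x)).stalkMap (f.asFiber x)).hom =
      (hV.primeIdealOf ⟨f x, hUV hx⟩).asIdeal.map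
        ((X.presheaf.germ U _ hx₁).hom.comp (f.appLE V U hUV).hom) := by
  have hz := f.fiberι_asFiber x
  set z := f.asFiber x with hzdef
  let c := X.presheaf.stalkCongr (.of_eq hz.symm)
  have hσ : (σ f x z hz).hom =
      ((f.fiberι (f x)).stalkMap z).hom.comp c.commRingCatIsoToRingEquiv.toRingHom := rfl
  rw [ker_comp_iso c.commRingCatIsoToRingEquiv, ← hσ, ker_σ f x z hz]
  unfold fibIdeal
  letI := Y.presheaf.algebra_section_stalk ⟨f x, hUV hx⟩
  haveI := hV.isLocalization_stalk ⟨f x, hUV hx⟩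
  have hm : IsLocalRing.maximalIdeal (Y.presheaf.stalk (f x)) =
      (hV.primeIdealOf ⟨f x, hUV hx⟩).asIdeal.map (Y.presheaf.germ V (f x) (hUV hx)).hom :=
    (IsLocalization.AtPrime.map_eq_maximalIdeal (hV.primeIdealOf ⟨f x, hUV hx⟩).asIdeal
      (Y.presheaf.stalk (f x))).symm
  rw [hm, Ideal.map_map, Ideal.map_map]
  congr 1
  ext b
  show c.hom.hom ((f.stalkMap x).hom ((Y.presheaf.germ V (f x) (hUV hx)).hom b)) =
    (X.presheaf.germ U _ hx₁).hom ((f.appLE V U hUV).hom b)
  have h1 : (f.stalkMap x).hom ((Y.presheaf.germ V (f x) (hUV hx)).hom b) =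
      (X.presheaf.germ U x hx).hom ((f.appLE V U hUV).hom b) := stalkMap_germ_appLE f hUV x hx b
  rw [h1]
  have h2 : X.presheaf.germ U x hx ≫ c.hom = X.presheaf.germ U _ hx₁ :=
    X.presheaf.germ_stalkSpecializes hx (Inseparable.of_eq hz.symm).ge
  exact congrArg (fun φ => φ.hom ((f.appLE V U hUV).hom b)) h2

end Groth.Agent.Lib.Helper73
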